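import Groth.Agent.Lib.BlowUp.ReesProjC

/-!
# General facts on blowing up via the universal property (lead)

ns `Groth.Agent.Lib.BlowUp.UP`.

* `isBlowUp_comp_iso` : invariance under isomorphisms of the base.
* `isBlowUp_of_isPullback` : base change along an open immersion.
* `isIso_of_isBlowUp` : a morphism between two blow-ups of the same ideal (over the base) is an iso.
* `hom_ext` : morphisms into a blow-up are determined by their composite with the blow-up.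
* `exists_isBlowUp_of_isAffine` : blow-ups of affine schemes exist (`Proj` of the Rees algebra).
-/

universe u

open CategoryTheory CategoryTheory.Limits AlgebraicGeometry Opposite TopologicalSpace

namespace Groth.Agent.Lib.BlowUp.UP

variable {X X' : Scheme.{u}}

/-- morphisms into a blow-up are determined by their composite with the blow-up -/
theorem hom_ext {b : X' ⟶ X} {𝓘 : X.IdealSheafData} (hb : BlowUp.IsBlowUp b 𝓘) {Y : Scheme.{u}}
    (p q : Y ⟶ X') (hE : BlowUp.IsEffCartierIdeal (𝓘.comap (p ≫ b))) (h : p ≫ b = q ≫ b) :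
    p = q :=
  (hb.2 Y (p ≫ b) hE).unique rfl h.symm

/-- invariance of blow-ups under isomorphisms of the base -/
theorem isBlowUp_comp_iso {Z : Scheme.{u}} (e : X ≅ Z) (b : X' ⟶ X) (𝓘 : X.IdealSheafData)
    (hb : BlowUp.IsBlowUp b 𝓘) : BlowUp.IsBlowUp (b ≫ e.hom) (𝓘.comap e.inv) := by
  refine ⟨?_, fun Y g hg => ?_⟩
  · rw [← Scheme.IdealSheafData.comap_comp, Category.assoc, e.hom_inv_id, Category.comp_id]
    exact hb.1
  · rw [← Scheme.IdealSheafData.comap_comp] at hg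
    obtain ⟨l, hl, hluniq⟩ := hb.2 Y (g ≫ e.inv) hg
    refine ⟨l, ?_, fun l' hl' => hluniq l' ?_⟩
    · show l ≫ b ≫ e.hom = g
      rw [← Category.assoc, hl, Category.assoc, e.inv_hom_id, Category.comp_id]
    · show l' ≫ b = g ≫ e.inv
      rw [← hl', Category.assoc, Category.assoc, e.hom_inv_id, Category.comp_id]

/-- base change of a blow-up along an open immersion -/
theorem isBlowUp_of_isPullback {U U' : Scheme.{u}} (j : U ⟶ X) [IsOpenImmersion j] (b : X' ⟶ X)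
    (j' : U' ⟶ X') (b' : U' ⟶ U) (sq : IsPullback j' b' b j) (𝓘 : X.IdealSheafData)
    (hb : BlowUp.IsBlowUp b 𝓘) : BlowUp.IsBlowUp b' (𝓘.comap j) := by
  have : IsOpenImmersion j' := MorphismProperty.of_isPullback sq.flip inferInstance
  refine ⟨?_, fun Y g hg => ?_⟩
  · rw [← Scheme.IdealSheafData.comap_comp, ← sq.w, Scheme.IdealSheafData.comap_comp]
    exact isEffCartierIdeal_comap_of_flat j' _ hb.1
  · rw [← Scheme.IdealSheafData.comap_comp] at hg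
    obtain ⟨l, hl, hluniq⟩ := hb.2 Y (g ≫ j) hg
    have hl' : l ≫ b = g ≫ j := hl
    refine ⟨sq.lift l g hl', sq.lift_snd _ _ _, fun k hk => ?_⟩
    have hk' : k ≫ b' = g := hk
    apply sq.hom_ext
    · rw [sq.lift_fst]
      apply hluniq
      show (k ≫ j') ≫ b = g ≫ j
      rw [Category.assoc, sq.w, ← Category.assoc, hk']
    · rw [sq.lift_snd, hk']

/-- a morphism over the base between two blow-ups of the same ideal is an isomorphism -/
theorem isIso_of_isBlowUp {X₁ X₂ : Scheme.{u}} {𝓘 : X.IdealSheafData} (b₁ : X₁ ⟶ X) (b₂ : X₂ ⟶ X)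
    (h₁ : BlowUp.IsBlowUp b₁ 𝓘) (h₂ : BlowUp.IsBlowUp b₂ 𝓘) (f : X₁ ⟶ X₂) (hf : f ≫ b₂ = b₁) :
    IsIso f := by
  obtain ⟨f', hf', -⟩ := h₁.2 X₂ b₂ h₂.1
  have hf'' : f' ≫ b₁ = b₂ := hf'
  refine ⟨f', ?_, ?_⟩
  · refine hom_ext h₁ _ _ ?_ ?_
    · rw [Category.assoc, hf'', hf]; exact h₁.1
    · rw [Category.assoc, hf'', hf, Category.id_comp]
  · refine hom_ext h₂ _ _ ?_ ?_
    · rw [Category.assoc, hf, hf'']; exact h₂.1
    · rw [Category.assoc, hf, hf'', Category.id_comp]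

/-- two blow-ups of the same ideal are isomorphic over the base -/
theorem exists_iso_of_isBlowUp {X₁ X₂ : Scheme.{u}} {𝓘 : X.IdealSheafData} (b₁ : X₁ ⟶ X)
    (b₂ : X₂ ⟶ X) (h₁ : BlowUp.IsBlowUp b₁ 𝓘) (h₂ : BlowUp.IsBlowUp b₂ 𝓘) :
    ∃ e : X₁ ≅ X₂, e.hom ≫ b₂ = b₁ := by
  obtain ⟨f, hf, -⟩ := h₂.2 X₁ b₁ h₁.1
  have := isIso_of_isBlowUp b₁ b₂ h₁ h₂ f hf
  exact ⟨asIso f, hf⟩

/-- being a blow-up only depends on the ideal sheaf up to equality -/
theorem isBlowUp_congr {b : X' ⟶ X} {𝓘 𝓙 : X.IdealSheafData} (h : 𝓘 = 𝓙)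
    (hb : BlowUp.IsBlowUp b 𝓘) : BlowUp.IsBlowUp b 𝓙 := h ▸ hb

open Groth.Agent.Lib.BlowUp.ReesProj in
/-- **blow-ups of affine schemes exist** -/
theorem exists_isBlowUp_of_isAffine (Z : Scheme.{u}) [IsAffine Z] (𝓘 : Z.IdealSheafData) :
    ∃ (Z' : Scheme.{u}) (b : Z' ⟶ Z), BlowUp.IsBlowUp b 𝓘 := by
  obtain ⟨J, hJ⟩ : ∃ J : Ideal Γ(Z, ⊤), J = 𝓘.ideal ⟨⊤, isAffineOpen_top Z⟩ := ⟨_, rfl⟩
  have h1 := isBlowUp_comp_iso Z.isoSpec.symm (π J) (idealSheaf J) (isBlowUp_π J)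
  refine ⟨Bl J, π J ≫ Z.isoSpec.symm.hom, isBlowUp_congr ?_ h1⟩
  refine Scheme.IdealSheafData.ext_of_isAffine ?_
  show ((idealSheaf J).comap Z.isoSpec.hom).ideal ⟨⊤, isAffineOpen_top Z⟩ = _
  rw [ideal_comap J Z.isoSpec.hom ⟨⊤, isAffineOpen_top Z⟩, ← hJ]
  have h2 : (Z.isoSpec.hom.appLE ⊤ ⊤ (fun _ _ => trivial)).hom.comp
      (Scheme.ΓSpecIso (CommRingCat.of Γ(Z, ⊤))).inv.hom = RingHom.id _ := by
    have h3 : Z.isoSpec.hom.appLE ⊤ ⊤ (fun _ _ => trivial) = Z.isoSpec.hom.appTop :=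
      Scheme.Hom.appLE_eq_app _
    have h4 : Z.isoSpec.hom.appTop = (Scheme.ΓSpecIso Γ(Z, ⊤)).hom := Scheme.toSpecΓ_appTop Z
    rw [h3, h4]
    ext c
    exact congrArg (fun φ => φ.hom c) (Scheme.ΓSpecIso Γ(Z, ⊤)).inv_hom_id
  show Ideal.map _ J = J
  rw [h2, Ideal.map_id]

end Groth.Agent.Lib.BlowUp.UP
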