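import Groth.Agent.Lib.BlowUp.Basic

/-!
# The complement of an effective Cartier divisor (lead)

ns `Groth.Agent.Lib.BlowUp.CartierCompl`.  For an effective Cartier ideal `𝓚` on a scheme `T`
(prelude `BlowUp.IsEffCartierIdeal`), and `W : T.Opens` the complement of the support of `𝓚`
(`hW : (W : Set T) = (𝓚.support : Set T)ᶜ`):

* `inf_eq_basicOpen` : on a chart `V` with `𝓚(V) = (t)`, `W ⊓ V = D(t)`.
* `isAffineHom_ι` : `W ⟶ T` is an affine morphism.
* `ker_ι` : `W ⟶ T` is scheme-theoretically dominant: its kernel is `⊥`.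
* `ker_ι_comp` : `(W.ι ≫ k).ker = k.ker`.
-/

universe u

open CategoryTheory CategoryTheory.Limits AlgebraicGeometry Opposite TopologicalSpace

namespace Groth.Agent.Lib.BlowUp.CartierCompl

variable {T : Scheme.{u}} (𝓚 : T.IdealSheafData) (W : T.Opens)
  (hW : (W : Set T) = (𝓚.support : Set T)ᶜ)

include hW in
/-- on a chart where `𝓚` is generated by `t`, the complement of the support is `D(t)` -/
lemma inf_eq_basicOpen (V : T.affineOpens) (t : Γ(T, V.1)) (ht : 𝓚.ideal V = Ideal.span {t}) :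
    W ⊓ V.1 = T.basicOpen t := by
  have h1 := 𝓚.coe_support_inter V
  rw [ht, Scheme.zeroLocus_span, Scheme.zeroLocus_singleton] at h1
  ext x
  constructor
  · rintro ⟨hx1, hx2⟩
    have hx1' : x ∈ (𝓚.support : Set T)ᶜ := hW ▸ hx1
    by_contra hx3
    have : x ∈ ((T.basicOpen t : Set T))ᶜ ∩ (V.1 : Set T) := ⟨hx3, hx2⟩
    rw [← h1] at this
    exact hx1' this.1
  · intro hx
    have hxV : x ∈ V.1 := T.basicOpen_le t hx
    refine ⟨?_, hxV⟩
    show x ∈ (W : Set T)
    rw [hW]
    intro hx1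
    have : x ∈ ((𝓚.support : Set T)) ∩ (V.1 : Set T) := ⟨hx1, hxV⟩
    rw [h1] at this
    exact this.1 hx

variable {𝓚} (h𝓚 : BlowUp.IsEffCartierIdeal 𝓚)

include h𝓚 hW in
/-- the complement of an effective Cartier divisor is affine over the ambient scheme -/
theorem isAffineHom_ι : IsAffineHom W.ι := by
  refine isAffineHom_of_forall_exists_isAffineOpen _ (fun x => ?_)
  obtain ⟨V, hxV, t, -, ht⟩ := h𝓚 x
  refine ⟨V.1, hxV, V.2, ?_⟩
  rw [← W.ι.isAffineOpen_iff_of_isOpenImmersion,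
    Scheme.Hom.image_preimage_eq_opensRange_inf, Scheme.Opens.opensRange_ι,
    inf_eq_basicOpen 𝓚 W hW V t ht]
  exact V.2.basicOpen t

lemma injective_map_of_eq_basicOpen {V : T.Opens} (hV : IsAffineOpen V) (t : Γ(T, V))
    (ht : t ∈ nonZeroDivisors Γ(T, V)) (O : T.Opens) (hO : O = T.basicOpen t) (h : O ≤ V) :
    Function.Injective (T.presheaf.map (homOfLE h).op).hom := by
  subst hO
  have := hV.isLocalization_basicOpen t
  exact IsLocalization.injective (M := Submonoid.powers t) Γ(T, T.basicOpen t)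
    (Submonoid.powers_le.2 ht)

include h𝓚 hW in
/-- the complement of an effective Cartier divisor is scheme-theoretically dense -/
theorem ker_ι : W.ι.ker = ⊥ := by
  have := isAffineHom_ι W hW h𝓚
  choose V hxV t ht1 ht2 using h𝓚
  refine Scheme.IdealSheafData.ext_of_iSup_eq_top V ?_ (fun x => ?_)
  · exact top_le_iff.mp (fun x _ => Opens.mem_iSup.2 ⟨x, hxV x⟩)
  · rw [Scheme.Hom.ker_apply, Scheme.IdealSheafData.ideal_bot, Pi.bot_apply,
      ← RingHom.injective_iff_ker_eq_bot, Scheme.Opens.ι_app]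
    refine injective_map_of_eq_basicOpen (V x).2 (t x) (ht1 x) _ ?_ _
    rw [Scheme.Hom.image_preimage_eq_opensRange_inf, Scheme.Opens.opensRange_ι,
      inf_eq_basicOpen 𝓚 W hW (V x) (t x) (ht2 x)]

include h𝓚 hW in
theorem ker_ι_comp {S : Scheme.{u}} (k : T ⟶ S) : (W.ι ≫ k).ker = k.ker := by
  rw [Scheme.Hom.ker_comp, ker_ι W hW h𝓚, Scheme.IdealSheafData.map_bot]

end Groth.Agent.Lib.BlowUp.CartierCompl
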