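import Groth.Agent.Lib.BlowUp.Helper18_EffCartier
import Groth.Agent.Lib.QCoh.Helper18_StalkQCoh

/-!
# Factors of effective Cartier ideals (helper18)

Namespace `Groth.Agent.Lib.BlowUp`.

* `isEffCartierIdeal_of_mul_left` : if `𝓘 * 𝓙` is an effective Cartier ideal, so is `𝓘`.
* `isEffCartierIdeal_of_mul_right`.
-/

universe u

open CategoryTheory CategoryTheory.Limits AlgebraicGeometry Opposite TopologicalSpace
open Groth.Agent.Lib.QCoh

namespace Groth.Agent.Lib.BlowUp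

variable {X : Scheme.{u}}

/-- Algebraic core: if `I * J = (t)` with `t` a nonzerodivisor and `p` is a prime ideal, there are
`r ∉ p`, `i₀ ∈ I`, `j₀ ∈ J` with `i₀ * j₀ = r * t`. -/
theorem exists_mul_eq_of_mul_eq_span {R : Type*} [CommRing R] (I J : Ideal R) (t : R)
    (ht : t ∈ nonZeroDivisors R) (hIJ : I * J = Ideal.span {t}) (p : Ideal R) [p.IsPrime] :
    ∃ r, r ∉ p ∧ ∃ i₀ ∈ I, ∃ j₀ ∈ J, i₀ * j₀ = r * t := by
  by_contra hcon
  push Not at hcon
  -- the ideal of all `s` with `s * t ∈ p * t`... use `K = {z | ∃ s ∈ p, z = s * t}`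
  have hle : I * J ≤ Ideal.span {t} * p := by
    rw [Ideal.mul_le]
    intro i hi j hj
    have h1 : i * j ∈ Ideal.span {t} := hIJ ▸ Ideal.mul_mem_mul hi hj
    obtain ⟨r, hr⟩ := Ideal.mem_span_singleton'.1 h1
    have hrp : r ∈ p := by
      by_contra hrp
      exact hcon r hrp i hi j hj hr.symm
    have h2 : t * r ∈ Ideal.span {t} * p :=
      Ideal.mul_mem_mul (Ideal.mem_span_singleton_self t) hrp
    rw [mul_comm t r, hr] at h2
    exact h2
  have h2 : t ∈ Ideal.span {t} * p := hle (hIJ ▸ Ideal.mem_span_singleton_self t)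
  rw [Ideal.mem_span_singleton_mul] at h2
  obtain ⟨s, hs, hst⟩ := h2
  have hs1 : s = 1 := by
    have h3 : (s - 1) * t = 0 := by rw [sub_mul, one_mul, mul_comm, hst, sub_self]
    have := (mem_nonZeroDivisors_iff_right.1 ht) _ h3
    exact sub_eq_zero.1 this
  rw [hs1] at hs
  exact (Ideal.IsPrime.ne_top ‹_›) ((Ideal.eq_top_iff_one p).2 hs)

theorem isEffCartierIdeal_of_mul_left {𝓘 𝓙 : X.IdealSheafData}
    (h : BlowUp.IsEffCartierIdeal (𝓘 * 𝓙)) : BlowUp.IsEffCartierIdeal 𝓘 := by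
  intro x
  obtain ⟨V, hxV, t, ht, hIJ⟩ := h x
  rw [Scheme.IdealSheafData.ideal_mul] at hIJ
  have hIJ' : 𝓘.ideal V * 𝓙.ideal V = Ideal.span {t} := hIJ
  obtain ⟨r, hrp, i₀, hi₀, j₀, hj₀, hij⟩ := exists_mul_eq_of_mul_eq_span (𝓘.ideal V) (𝓙.ideal V) t
    ht hIJ' (V.2.primeIdealOf ⟨x, hxV⟩).asIdeal
  have hxW : x ∈ X.basicOpen r := (notMem_primeIdealOf_iff V.2 x hxV r).1 hrp
  set W : X.affineOpens := X.affineBasicOpen r with hW
  have hWV : W.1 ≤ V.1 := X.basicOpen_le r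
  set ρ := X.presheaf.map (homOfLE hWV).op with hρ
  have hru : IsUnit (ρ r) := X.toRingedSpace.isUnit_res_basicOpen r
  have htW : ρ t ∈ nonZeroDivisors Γ(X, W.1) := res_mem_nonZeroDivisors V.2 hWV t ht
  refine ⟨W, hxW, ρ i₀, ?_, ?_⟩
  · rw [mem_nonZeroDivisors_iff_right]
    intro z hz
    have h1 : z * (ρ r * ρ t) = 0 := by
      rw [← map_mul, ← hij, map_mul, ← mul_assoc, hz, zero_mul]
    rw [mul_comm (ρ r), ← mul_assoc] at h1
    have h2 : z * ρ t = 0 := hru.mul_left_eq_zero.1 h1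
    exact (mem_nonZeroDivisors_iff_right.1 htW) z h2
  · have h1 := 𝓘.map_ideal (U := W) (V := V) hWV
    rw [← h1]
    apply le_antisymm
    · rw [Ideal.map_le_iff_le_comap]
      intro i hi
      rw [Ideal.mem_comap]
      -- `i * j₀ = s * t`
      have h2 : i * j₀ ∈ Ideal.span {t} := hIJ' ▸ Ideal.mul_mem_mul hi hj₀
      obtain ⟨s, hs⟩ := Ideal.mem_span_singleton'.1 h2
      have h3 : i * r = i₀ * s := by
        have h4 : (i * r - i₀ * s) * t = 0 := by
          rw [sub_mul, mul_assoc, ← hij, mul_assoc i₀ s t, hs]; ring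
        exact sub_eq_zero.1 ((mem_nonZeroDivisors_iff_right.1 ht) _ h4)
      have h5 : ρ i * ρ r = ρ i₀ * ρ s := by rw [← map_mul, ← map_mul, h3]
      obtain ⟨u, hu⟩ := hru
      have h6 : ρ i = ρ i₀ * (ρ s * ↑u⁻¹) := by
        rw [← mul_assoc, ← h5, ← hu, mul_assoc, Units.mul_inv, mul_one]
      change ρ i ∈ _
      rw [h6]
      exact Ideal.mul_mem_right _ _ (Ideal.mem_span_singleton_self _)
    · rw [Ideal.span_singleton_le_iff_mem]
      exact Ideal.mem_map_of_mem _ hi₀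

theorem isEffCartierIdeal_of_mul_right {𝓘 𝓙 : X.IdealSheafData}
    (h : BlowUp.IsEffCartierIdeal (𝓘 * 𝓙)) : BlowUp.IsEffCartierIdeal 𝓙 := by
  rw [mul_comm] at h
  exact isEffCartierIdeal_of_mul_left h

end Groth.Agent.Lib.BlowUp
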