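import Groth.Agent.Lib.BlowUp.Exists
import Groth.Agent.Lib.BlowUp.Helper18_Factor

/-!
# Blowing up a product of ideals (lead)

ns `Groth.Agent.Lib.BlowUp.Compose`.

* `isBlowUp_iso_comp` : precomposing a blow-up with an isomorphism.
* `isBlowUp_comp` (Stacks 080A) : if `b : X' ⟶ X` is a blow-up in `𝓘` and `b' : X'' ⟶ X'` a
  blow-up in `𝓙 𝒪_{X'}`, then `b' ≫ b` is a blow-up in `𝓘 * 𝓙`.
* `exists_factor` : a blow-up in `𝓘 * 𝓛` factors through a blow-up in `𝓘`, by a blow-up in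
  `𝓛 𝒪`.
* `fg_ideal_of_cover`, `isFiniteTypeIdeal_comap` : inverse images of finite type ideals are of
  finite type.
* `isAdmissibleFor_prod`, `isAdmissibleFor_comap`.
-/

universe u

open CategoryTheory CategoryTheory.Limits AlgebraicGeometry Opposite TopologicalSpace

namespace Groth.Agent.Lib.BlowUp.Compose

open Groth.Agent.Lib.BlowUp Groth.Agent.Lib.BlowUp.UP

variable {X : Scheme.{u}}

/-- precomposing a blow-up with an isomorphism -/
theorem isBlowUp_iso_comp {X₁ X₂ : Scheme.{u}} (e : X₁ ≅ X₂) (b : X₂ ⟶ X)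
    (𝓘 : X.IdealSheafData) (hb : BlowUp.IsBlowUp b 𝓘) : BlowUp.IsBlowUp (e.hom ≫ b) 𝓘 := by
  refine ⟨?_, fun Y g hg => ?_⟩
  · rw [Scheme.IdealSheafData.comap_comp]
    exact isEffCartierIdeal_comap_of_flat e.hom _ hb.1
  · obtain ⟨l, hl, hluniq⟩ := hb.2 Y g hg
    have hl' : l ≫ b = g := hl
    refine ⟨l ≫ e.inv, ?_, fun k hk => ?_⟩
    · show (l ≫ e.inv) ≫ e.hom ≫ b = g
      rw [Category.assoc, e.inv_hom_id_assoc, hl']
    · have hk' : k ≫ e.hom ≫ b = g := hk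
      have h1 : k ≫ e.hom = l := hluniq _ (by
        show (k ≫ e.hom) ≫ b = g
        rw [Category.assoc, hk'])
      rw [← h1, Category.assoc, e.hom_inv_id, Category.comp_id]

/-- **Stacks 080A**: a blow-up in `𝓘` followed by a blow-up in the inverse image of `𝓙` is a
blow-up in `𝓘 * 𝓙` -/
theorem isBlowUp_comp {X' X'' : Scheme.{u}} (𝓘 𝓙 : X.IdealSheafData) (b : X' ⟶ X)
    (hb : BlowUp.IsBlowUp b 𝓘) (b' : X'' ⟶ X') (hb' : BlowUp.IsBlowUp b' (𝓙.comap b)) :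
    BlowUp.IsBlowUp (b' ≫ b) (𝓘 * 𝓙) := by
  refine ⟨?_, fun Y g hg => ?_⟩
  · rw [Groth.Agent.Lib.Helper20.comap_mul, Scheme.IdealSheafData.comap_comp,
      Scheme.IdealSheafData.comap_comp]
    exact isEffCartierIdeal_mul
      (isEffCartierIdeal_comap_of_isBlowUp (𝓙.comap b) b' hb' (𝓘.comap b) hb.1) hb'.1
  · rw [Groth.Agent.Lib.Helper20.comap_mul] at hg
    have hgI : BlowUp.IsEffCartierIdeal (𝓘.comap g) := isEffCartierIdeal_of_mul_left hg
    have hgJ : BlowUp.IsEffCartierIdeal (𝓙.comap g) := isEffCartierIdeal_of_mul_right hg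
    obtain ⟨g', hg', hg'uniq⟩ := hb.2 Y g hgI
    have hg'1 : g' ≫ b = g := hg'
    have hgJ' : BlowUp.IsEffCartierIdeal ((𝓙.comap b).comap g') := by
      rw [← Scheme.IdealSheafData.comap_comp, hg'1]; exact hgJ
    obtain ⟨g'', hg'', hg''uniq⟩ := hb'.2 Y g' hgJ'
    have hg''1 : g'' ≫ b' = g' := hg''
    refine ⟨g'', ?_, fun k hk => ?_⟩
    · show g'' ≫ b' ≫ b = g
      rw [← Category.assoc, hg''1, hg'1]
    · have hk' : k ≫ b' ≫ b = g := hk
      have h1 : k ≫ b' = g' := hg'uniq _ (by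
        show (k ≫ b') ≫ b = g
        rw [Category.assoc, hk'])
      exact hg''uniq _ h1

/-- a blow-up in `𝓘 * 𝓛` factors through any blow-up in `𝓘`, via a blow-up in `𝓛 𝒪` -/
theorem exists_factor {X₁ X' : Scheme.{u}} (𝓘 𝓛 : X.IdealSheafData) (b : X₁ ⟶ X)
    (hb : BlowUp.IsBlowUp b 𝓘) (c : X' ⟶ X) (hc : BlowUp.IsBlowUp c (𝓘 * 𝓛)) :
    ∃ g : X' ⟶ X₁, g ≫ b = c ∧ BlowUp.IsBlowUp g (𝓛.comap b) := by
  have hcI : BlowUp.IsEffCartierIdeal (𝓘.comap c) := by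
    have h := hc.1
    rw [Groth.Agent.Lib.Helper20.comap_mul] at h
    exact isEffCartierIdeal_of_mul_left h
  obtain ⟨g, hg, -⟩ := hb.2 X' c hcI
  have hg1 : g ≫ b = c := hg
  obtain ⟨X'', b'', hb''⟩ := Groth.Agent.Lib.BlowUp.Exists.exists_isBlowUp X₁ (𝓛.comap b)
  have hcomp := isBlowUp_comp 𝓘 𝓛 b hb b'' hb''
  obtain ⟨e, he⟩ := exists_iso_of_isBlowUp c (b'' ≫ b) hc hcomp
  have hge : g = e.hom ≫ b'' := by
    refine hom_ext hb _ _ (by rw [hg1]; exact hcI) ?_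
    rw [hg1, Category.assoc, he]
  refine ⟨g, hg1, ?_⟩
  rw [hge]
  exact isBlowUp_iso_comp e b'' _ hb''

section FiniteType

lemma fg_of_localizationSpan' {R : Type u} [CommRing R] {I : Ideal R} (t : Set R)
    (ht : Ideal.span t = ⊤) (Rₚ : t → Type u) [∀ g, CommRing (Rₚ g)] [∀ g, Algebra R (Rₚ g)]
    [∀ g : t, IsLocalization.Away g.val (Rₚ g)]
    (H : ∀ g : t, (I.map (algebraMap R (Rₚ g))).FG) : I.FG := by
  apply Module.Finite.iff_fg.mp
  let k (g : t) : I →ₗ[R] (I.map (algebraMap R (Rₚ g))) := Algebra.idealMap I (S := Rₚ g)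
  exact Module.Finite.of_localizationSpan' t ht k (fun g ↦ .of_fg (H g))

/-- finite generation of the ideal on an affine open can be checked on a cover by basic opens -/
theorem fg_ideal_of_cover (𝓚 : X.IdealSheafData) (W : X.affineOpens) (t : Set Γ(X, W.1))
    (ht : Ideal.span t = ⊤) (H : ∀ r ∈ t, (𝓚.ideal (X.affineBasicOpen r)).FG) :
    (𝓚.ideal W).FG := by
  have : ∀ g : t, IsLocalization.Away g.val Γ(X, X.basicOpen g.val) :=
    fun g => W.2.isLocalization_basicOpen g.val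
  refine fg_of_localizationSpan' t ht (fun g => Γ(X, X.basicOpen g.val)) (fun g => ?_)
  have h1 := 𝓚.map_ideal_basicOpen W g.val
  have h2 := H g.val g.2
  rw [← h1] at h2
  exact h2

/-- the inverse image of an ideal sheaf of finite type is of finite type -/
theorem isFiniteTypeIdeal_comap {X' : Scheme.{u}} (f : X' ⟶ X) (𝓛 : X.IdealSheafData)
    (h𝓛 : BlowUp.IsFiniteTypeIdeal 𝓛) : BlowUp.IsFiniteTypeIdeal (𝓛.comap f) := by
  intro W
  refine fg_ideal_of_cover (𝓛.comap f) W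
    {r | ∃ V : X.affineOpens, X'.basicOpen r ≤ f ⁻¹ᵁ V.1} ?_ ?_
  · rw [← W.2.self_le_iSup_basicOpen_iff]
    intro x hxW
    obtain ⟨V, hV, hxV, -⟩ := Opens.isBasis_iff_nbhd.1 X.isBasis_affineOpens
      (show f x ∈ (⊤ : X.Opens) from trivial)
    have hV' : IsAffineOpen V := hV
    obtain ⟨r, hr1, hr2⟩ := W.2.exists_basicOpen_le (V := f ⁻¹ᵁ V) ⟨x, hxV⟩ hxW
    exact Opens.mem_iSup.2 ⟨⟨r, ⟨V, hV'⟩, hr1⟩, hr2⟩
  · rintro r ⟨V, hrV⟩
    rw [Groth.Agent.Lib.Helper20.ideal_comap f 𝓛 (X'.affineBasicOpen r) V hrV]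
    exact (h𝓛 V).map _

end FiniteType

section Admissible

theorem isFiniteTypeIdeal_mul {𝓘 𝓙 : X.IdealSheafData} (hI : BlowUp.IsFiniteTypeIdeal 𝓘)
    (hJ : BlowUp.IsFiniteTypeIdeal 𝓙) : BlowUp.IsFiniteTypeIdeal (𝓘 * 𝓙) := fun U => by
  rw [Scheme.IdealSheafData.ideal_mul]
  exact (hI U).mul (hJ U)

theorem isAdmissibleFor_one (U : X.Opens) : BlowUp.IsAdmissibleFor U (1 : X.IdealSheafData) := by
  refine ⟨fun V => ?_, ?_⟩
  · show (⊤ : Ideal Γ(X, V.1)).FG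
    exact ⟨{1}, by simp⟩
  · show Disjoint ((⊤ : X.IdealSheafData).support : Set X) (U : Set X)
    rw [Scheme.IdealSheafData.support_top]
    exact Set.disjoint_left.2 (fun x hx => hx.elim)

theorem isAdmissibleFor_mul {U : X.Opens} {𝓘 𝓙 : X.IdealSheafData}
    (hI : BlowUp.IsAdmissibleFor U 𝓘) (hJ : BlowUp.IsAdmissibleFor U 𝓙) :
    BlowUp.IsAdmissibleFor U (𝓘 * 𝓙) := by
  refine ⟨isFiniteTypeIdeal_mul hI.1 hJ.1, ?_⟩
  rw [Scheme.IdealSheafData.support_mul]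
  show Disjoint ((𝓘.support : Set X) ∪ (𝓙.support : Set X)) (U : Set X)
  exact Set.disjoint_union_left.2 ⟨hI.2, hJ.2⟩

theorem isAdmissibleFor_prod {U : X.Opens} {ι : Type*} (s : Finset ι) (𝓘 : ι → X.IdealSheafData)
    (h : ∀ i ∈ s, BlowUp.IsAdmissibleFor U (𝓘 i)) :
    BlowUp.IsAdmissibleFor U (∏ i ∈ s, 𝓘 i) :=
  Finset.prod_induction 𝓘 (BlowUp.IsAdmissibleFor U) (fun _ _ => isAdmissibleFor_mul)
    (isAdmissibleFor_one U) h

theorem isAdmissibleFor_comap {X' : Scheme.{u}} (f : X' ⟶ X) {U : X.Opens}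
    {𝓛 : X.IdealSheafData} (h : BlowUp.IsAdmissibleFor U 𝓛) :
    BlowUp.IsAdmissibleFor (f ⁻¹ᵁ U) (𝓛.comap f) := by
  refine ⟨isFiniteTypeIdeal_comap f 𝓛 h.1, ?_⟩
  rw [Scheme.IdealSheafData.support_comap]
  refine Set.disjoint_left.2 (fun x hx1 hx2 => ?_)
  exact Set.disjoint_left.1 h.2 hx1 hx2

end Admissible

end Groth.Agent.Lib.BlowUp.Compose
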