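import Groth.Agent.Lib.BlowUp.Basic
import Groth.Agent.Lib.Helper42.RelProjGlue
import Mathlib.AlgebraicGeometry.RelativeGluing
import Mathlib.AlgebraicGeometry.Sites.SmallAffineZariski

/-!
# Existence of blow-ups (lead)

ns `Groth.Agent.Lib.BlowUp.Exists`.  The blow-ups of the affine opens of `X` (`Proj` of Rees
algebras) glue, by the universal property and Mathlib's relative glueing, to a blow-up of `X`.

* `Bl X 𝓘`, `β X 𝓘 : Bl X 𝓘 ⟶ X`, `isBlowUp_β`.
* `B X 𝓘 U`, `b`, `hb`, `ι`, `isPullback_ι` : the local pieces.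
* `exists_isBlowUp` : blow-ups exist.
-/

universe u

open CategoryTheory CategoryTheory.Limits AlgebraicGeometry Opposite TopologicalSpace

namespace Groth.Agent.Lib.BlowUp.Exists

open Groth.Agent.Lib.BlowUp.UP Groth.Agent.Lib.BlowUp

variable (X : Scheme.{u}) (𝓘 : X.IdealSheafData)

/-- the restriction of `𝓘` to an open -/
noncomputable abbrev res (U : X.Opens) : (U : Scheme.{u}).IdealSheafData := 𝓘.comap U.ι

lemma res_comap_homOfLE {V U : X.Opens} (h : V ≤ U) :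
    (res X 𝓘 U).comap (X.homOfLE h) = res X 𝓘 V := by
  unfold res
  rw [← Scheme.IdealSheafData.comap_comp, Scheme.homOfLE_ι]

theorem exists_local (U : X.AffineZariskiSite) :
    ∃ (B : Scheme.{u}) (b : B ⟶ (U.1 : Scheme.{u})), BlowUp.IsBlowUp b (res X 𝓘 U.1) :=
  haveI : IsAffine (U.1 : Scheme.{u}) := U.2
  exists_isBlowUp_of_isAffine _ _

/-- the local blow-up -/
noncomputable def B (U : X.AffineZariskiSite) : Scheme.{u} := (exists_local X 𝓘 U).choose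

/-- the local blow-up morphism -/
noncomputable def b (U : X.AffineZariskiSite) : B X 𝓘 U ⟶ (U.1 : Scheme.{u}) :=
  (exists_local X 𝓘 U).choose_spec.choose

lemma hb (U : X.AffineZariskiSite) : BlowUp.IsBlowUp (b X 𝓘 U) (res X 𝓘 U.1) :=
  (exists_local X 𝓘 U).choose_spec.choose_spec

lemma eff_trans {V U : X.AffineZariskiSite} (h : V.1 ≤ U.1) :
    BlowUp.IsEffCartierIdeal ((res X 𝓘 U.1).comap (b X 𝓘 V ≫ X.homOfLE h)) := by
  rw [Scheme.IdealSheafData.comap_comp, res_comap_homOfLE]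
  exact (hb X 𝓘 V).1

/-- the transition maps -/
noncomputable def trans {V U : X.AffineZariskiSite} (f : V ⟶ U) : B X 𝓘 V ⟶ B X 𝓘 U :=
  ((hb X 𝓘 U).2 _ _
    (eff_trans X 𝓘 (Scheme.AffineZariskiSite.toOpens_mono f.le))).exists.choose

lemma trans_b {V U : X.AffineZariskiSite} (f : V ⟶ U) :
    trans X 𝓘 f ≫ b X 𝓘 U =
      b X 𝓘 V ≫ X.homOfLE (Scheme.AffineZariskiSite.toOpens_mono f.le) :=
  ((hb X 𝓘 U).2 _ _
    (eff_trans X 𝓘 (Scheme.AffineZariskiSite.toOpens_mono f.le))).exists.choose_spec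

/-- the diagram of the local blow-ups -/
noncomputable def functor : X.AffineZariskiSite ⥤ Scheme.{u} where
  obj := B X 𝓘
  map f := trans X 𝓘 f
  map_id U := by
    refine hom_ext (hb X 𝓘 U) _ _ ?_ ?_
    · rw [trans_b]; exact eff_trans X 𝓘 _
    · rw [trans_b, Category.id_comp]
      rw [← cancel_mono U.1.ι, Category.assoc, Scheme.homOfLE_ι]
  map_comp {W V U} f g := by
    refine hom_ext (hb X 𝓘 U) _ _ ?_ ?_
    · rw [trans_b]; exact eff_trans X 𝓘 _
    · rw [trans_b, Category.assoc, trans_b, ← Category.assoc, trans_b, Category.assoc]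
      congr 1
      rw [← cancel_mono U.1.ι, Category.assoc, Scheme.homOfLE_ι, Scheme.homOfLE_ι,
        Scheme.homOfLE_ι]

/-- the structure morphisms, as a natural transformation -/
noncomputable def natTrans :
    functor X 𝓘 ⟶ (Scheme.AffineZariskiSite.directedCover X).functorOfLocallyDirected where
  app U := b X 𝓘 U
  naturality _ _ f := trans_b X 𝓘 f

theorem equifibered : (natTrans X 𝓘).Equifibered := by
  intro V U f
  have hle : V.1 ≤ U.1 := Scheme.AffineZariskiSite.toOpens_mono f.le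
  have sq := IsPullback.of_hasPullback (b X 𝓘 U) (X.homOfLE hle)
  have hP : BlowUp.IsBlowUp (pullback.snd (b X 𝓘 U) (X.homOfLE hle)) (res X 𝓘 V.1) := by
    have := isBlowUp_of_isPullback (X.homOfLE hle) (b X 𝓘 U) (pullback.fst _ _)
      (pullback.snd _ _) sq (res X 𝓘 U.1) (hb X 𝓘 U)
    rwa [res_comap_homOfLE] at this
  obtain ⟨k, hkdef⟩ : ∃ k : B X 𝓘 V ⟶ pullback (b X 𝓘 U) (X.homOfLE hle),
      k = pullback.lift (trans X 𝓘 f) (b X 𝓘 V) (trans_b X 𝓘 f) := ⟨_, rfl⟩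
  have hk1 : k ≫ pullback.fst (b X 𝓘 U) (X.homOfLE hle) = trans X 𝓘 f := by
    rw [hkdef]; exact pullback.lift_fst _ _ _
  have hk2 : k ≫ pullback.snd (b X 𝓘 U) (X.homOfLE hle) = b X 𝓘 V := by
    rw [hkdef]; exact pullback.lift_snd _ _ _
  have hiso : IsIso k := isIso_of_isBlowUp (b X 𝓘 V) (pullback.snd _ _) (hb X 𝓘 V) hP k hk2
  exact IsPullback.of_iso_pullback ⟨trans_b X 𝓘 f⟩ (@asIso _ _ _ _ k hiso) hk1 hk2

/-- the relative glueing datum of the local blow-ups -/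
noncomputable def glueData : (Scheme.AffineZariskiSite.directedCover X).RelativeGluingData where
  functor := functor X 𝓘
  natTrans := natTrans X 𝓘
  equifibered := equifibered X 𝓘

instance : ((glueData X 𝓘).functor ⋙ Scheme.forget).IsLocallyDirected :=
  Scheme.Cover.RelativeGluingData.instIsLocallyDirectedI₀CompFunctorForgetOfIsThin ..

/-- the blow-up of `X` in `𝓘` -/
noncomputable def Bl : Scheme.{u} := (glueData X 𝓘).glued

/-- the blow-up morphism -/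
noncomputable def β : Bl X 𝓘 ⟶ X := (glueData X 𝓘).toBase

/-- the open immersions of the local blow-ups -/
noncomputable def ι (U : X.AffineZariskiSite) : B X 𝓘 U ⟶ Bl X 𝓘 := (glueData X 𝓘).cover.f U

instance (U : X.AffineZariskiSite) : IsOpenImmersion (ι X 𝓘 U) :=
  (glueData X 𝓘).cover.map_prop _

theorem ι_β (U : X.AffineZariskiSite) : ι X 𝓘 U ≫ β X 𝓘 = b X 𝓘 U ≫ U.1.ι :=
  (glueData X 𝓘).ι_toBase U

theorem trans_ι {V U : X.AffineZariskiSite} (f : V ⟶ U) :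
    trans X 𝓘 f ≫ ι X 𝓘 U = ι X 𝓘 V :=
  colimit.w (glueData X 𝓘).functor f

theorem isPullback_ι (U : X.AffineZariskiSite) :
    IsPullback (b X 𝓘 U) (ι X 𝓘 U) U.1.ι (β X 𝓘) :=
  (glueData X 𝓘).isPullback_natTrans_ι_toBase U

theorem exists_mem_range_ι (x : Bl X 𝓘) : ∃ U, x ∈ Set.range (ι X 𝓘 U).base := by
  obtain ⟨U, y, hy⟩ := (glueData X 𝓘).cover.exists_eq x
  exact ⟨U, y, hy⟩

/-- an affine open as an element of the affine Zariski site -/
abbrev mkAff (U : X.Opens) (hU : IsAffineOpen U) : X.AffineZariskiSite := ⟨U, hU⟩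

variable {X 𝓘} in
lemma lift_compat {Y : Scheme.{u}} (g : Y ⟶ X)
    (hEff : ∀ U : X.Opens, BlowUp.IsEffCartierIdeal ((res X 𝓘 U).comap (g ∣_ U)))
    (l : ∀ U : X.AffineZariskiSite, ((g ⁻¹ᵁ U.1 : Y.Opens) : Scheme.{u}) ⟶ B X 𝓘 U)
    (hl : ∀ U, l U ≫ b X 𝓘 U = g ∣_ U.1) {V U : X.AffineZariskiSite} (f : V ⟶ U) :
    Y.homOfLE (g.preimage_mono (Scheme.AffineZariskiSite.toOpens_mono f.le)) ≫ l U ≫ ι X 𝓘 U =
      l V ≫ ι X 𝓘 V := by
  rw [← trans_ι X 𝓘 f, ← Category.assoc, ← Category.assoc]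
  congr 1
  have key : (Y.homOfLE (g.preimage_mono (Scheme.AffineZariskiSite.toOpens_mono f.le)) ≫ l U) ≫
      b X 𝓘 U = (l V ≫ trans X 𝓘 f) ≫ b X 𝓘 U := by
    rw [Category.assoc, hl, Category.assoc, trans_b, ← Category.assoc, hl,
      ← cancel_mono U.1.ι, Category.assoc, Category.assoc, morphismRestrict_ι,
      Scheme.homOfLE_ι, morphismRestrict_ι, ← Category.assoc, Scheme.homOfLE_ι]
  refine hom_ext (hb X 𝓘 U) _ _ ?_ key
  rw [Category.assoc, hl, Scheme.IdealSheafData.comap_comp]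
  exact isEffCartierIdeal_comap_of_flat _ _ (hEff U.1)

/-- **the glued scheme is a blowing up of `X` in `𝓘`** -/
theorem isBlowUp_β : BlowUp.IsBlowUp (β X 𝓘) 𝓘 := by
  refine ⟨?_, fun Y g hg => ?_⟩
  · refine ReesProj.isEffCartierIdeal_of_cover _ (fun U => ι X 𝓘 U) (exists_mem_range_ι X 𝓘)
      (fun U => ?_)
    rw [← Scheme.IdealSheafData.comap_comp, ι_β, Scheme.IdealSheafData.comap_comp]
    exact (hb X 𝓘 U).1
  · have hEff : ∀ U : X.Opens, BlowUp.IsEffCartierIdeal ((res X 𝓘 U).comap (g ∣_ U)) := by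
      intro U
      rw [← Scheme.IdealSheafData.comap_comp, morphismRestrict_ι,
        Scheme.IdealSheafData.comap_comp]
      exact isEffCartierIdeal_comap_of_flat _ _ hg
    have hl : ∀ U : X.AffineZariskiSite,
        ∃ l : ((g ⁻¹ᵁ U.1 : Y.Opens) : Scheme.{u}) ⟶ B X 𝓘 U, l ≫ b X 𝓘 U = g ∣_ U.1 ∧
          ∀ l', l' ≫ b X 𝓘 U = g ∣_ U.1 → l' = l := fun U => (hb X 𝓘 U).2 _ _ (hEff U.1)
    choose l hl hluniq using hl
    obtain ⟨r, hr, hruniq⟩ := Groth.Agent.Lib.Helper42.RelProjGlue.existsUnique_glue g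
      (fun U hU => l (mkAff X U hU) ≫ ι X 𝓘 (mkAff X U hU)) (fun U hU s =>
        lift_compat g hEff l hl
          (homOfLE (Scheme.AffineZariskiSite.basicOpen_le (mkAff X U hU) s)))
    have hr' : ∀ U : X.AffineZariskiSite, (g ⁻¹ᵁ U.1).ι ≫ r = l U ≫ ι X 𝓘 U :=
      fun U => hr U.1 U.2
    refine ⟨r, ?_, fun r' hr'' => hruniq r' (fun U hU => ?_)⟩
    · refine Groth.Agent.Lib.Helper42.RelProjGlue.hom_ext_affineOpens g (fun U hU => ?_)
      have h1 := hr' (mkAff X U hU)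
      have h2 := ι_β X 𝓘 (mkAff X U hU)
      have h3 := hl (mkAff X U hU)
      calc (g ⁻¹ᵁ U).ι ≫ r ≫ β X 𝓘 = ((g ⁻¹ᵁ U).ι ≫ r) ≫ β X 𝓘 := (Category.assoc _ _ _).symm
        _ = (l (mkAff X U hU) ≫ ι X 𝓘 (mkAff X U hU)) ≫ β X 𝓘 := by rw [h1]
        _ = l (mkAff X U hU) ≫ b X 𝓘 (mkAff X U hU) ≫ U.ι := by rw [Category.assoc, h2]
        _ = (g ∣_ U) ≫ U.ι := by rw [← Category.assoc, h3]
        _ = (g ⁻¹ᵁ U).ι ≫ g := morphismRestrict_ι g U
    · have hr3 : r' ≫ β X 𝓘 = g := hr''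
      have sq := isPullback_ι X 𝓘 (mkAff X U hU)
      have hcond : (g ∣_ U) ≫ U.ι = ((g ⁻¹ᵁ U).ι ≫ r') ≫ β X 𝓘 := by
        rw [Category.assoc, hr3, morphismRestrict_ι]
      have h1 : sq.lift (g ∣_ U) ((g ⁻¹ᵁ U).ι ≫ r') hcond = l (mkAff X U hU) :=
        hluniq (mkAff X U hU) _ (sq.lift_fst _ _ _)
      have h2 := sq.lift_snd (g ∣_ U) ((g ⁻¹ᵁ U).ι ≫ r') hcond
      rw [h1] at h2
      exact h2.symm

/-- **blow-ups exist** -/
theorem exists_isBlowUp : ∃ (X' : Scheme.{u}) (b : X' ⟶ X), BlowUp.IsBlowUp b 𝓘 :=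
  ⟨Bl X 𝓘, β X 𝓘, isBlowUp_β X 𝓘⟩

end Groth.Agent.Lib.BlowUp.Exists
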