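import Groth.Agent.Lib.Ample.GlobGenSection
import Groth.Agent.Lib.QCoh.Helper18_StalkQCoh

/-!
# Globally generated quasi-coherent modules are spanned by global sections over affine opens (lead)

ns `Groth.Agent.Lib.BlowUp.GlobGenSpan`.

* `mem_span_of_isGloballyGenerated` : `F` quasi-coherent and globally generated, `W` affine open;
  then every section of `F` over `W` is a `Γ(X, W)`-linear combination of restrictions of global sections.
-/

set_option autoImplicit false
universe u

open CategoryTheory CategoryTheory.Limits Opposite TopologicalSpace AlgebraicGeometry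

namespace Groth.Agent.Lib.BlowUp.GlobGenSpan

open Groth.Agent.Lib.QCoh Groth.Agent.Lib.Ample Scheme.Modules

variable {X : Scheme.{u}}

/-- restriction of global sections -/
noncomputable abbrev resTop' (F : X.Modules) (W : X.Opens) (t : Γ(F, ⊤)) : Γ(F, W) :=
  F.presheaf.map (homOfLE (le_top : W ≤ ⊤)).op t

theorem mem_span_of_isGloballyGenerated (F : X.Modules) [F.IsQuasicoherent]
    (hgg : Curv2.IsGloballyGenerated F) {W : X.Opens} (hW : IsAffineOpen W) (y : Γ(F, W)) :
    y ∈ Submodule.span Γ(X, W) (Set.range (resTop' F W)) := by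
  obtain ⟨ι, p, hp⟩ := hgg
  set N := Submodule.span Γ(X, W) (Set.range (resTop' F W)) with hN
  -- the colon ideal
  set J : Ideal Γ(X, W) := N.colon {y} with hJ
  have hJmem : ∀ r : Γ(X, W), r ∈ J ↔ r • y ∈ N := fun r => Submodule.mem_colon_singleton
  suffices h : J = ⊤ by
    have h1 : (1 : Γ(X, W)) ∈ J := h ▸ Submodule.mem_top
    rw [hJmem, one_smul] at h1
    exact h1
  have key : ∀ x : X, x ∈ W → ∃ r ∈ J, x ∈ X.basicOpen r := by
    intro x hx
    let _ := stalkModuleOfOpen F W x hx
    have hloc := isLocalizedModule_germ F hW x hx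
    let P := (hW.primeIdealOf ⟨x, hx⟩).asIdeal.primeCompl
    have hspan := @span_germ_eq_top_of_epi_free X F ι p hp x
    -- every element of the stalk is, up to a unit from `W`, the germ of an element of `N`
    have hQ : ∀ z : F.presheaf.stalk x, ∃ r ∈ P, ∃ n ∈ N,
        X.presheaf.germ W x hx r • z = F.presheaf.germ W x hx n := by
      intro z
      have hz : z ∈ Submodule.span (X.presheaf.stalk x) (Set.range fun i : ι =>
          stalkMap (SheafOfModules.ιFree i ≫ p) x (germOne x)) := hspan ▸ Submodule.mem_top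
      induction hz using Submodule.span_induction with
      | mem z hz =>
        obtain ⟨i, rfl⟩ := hz
        refine ⟨1, P.one_mem, resTop' F W (secOf (SheafOfModules.ιFree i ≫ p)),
          Submodule.subset_span ⟨_, rfl⟩, ?_⟩
        rw [map_one, one_smul]
        refine (stalkMap_germOne (SheafOfModules.ιFree i ≫ p) x).trans ?_
        exact (TopCat.Presheaf.germ_res_apply F.presheaf (homOfLE (le_top : W ≤ ⊤)) x hx _).symm
      | zero => exact ⟨1, P.one_mem, 0, N.zero_mem, by rw [smul_zero, map_zero]⟩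
      | add z₁ z₂ _ _ h₁ h₂ =>
        obtain ⟨r₁, hr₁, n₁, hn₁, e₁⟩ := h₁
        obtain ⟨r₂, hr₂, n₂, hn₂, e₂⟩ := h₂
        refine ⟨r₁ * r₂, P.mul_mem hr₁ hr₂, r₂ • n₁ + r₁ • n₂,
          N.add_mem (N.smul_mem _ hn₁) (N.smul_mem _ hn₂), ?_⟩
        rw [map_add, germ_smul, germ_smul, ← e₁, ← e₂, map_mul, smul_add, smul_smul, smul_smul,
          mul_comm (X.presheaf.germ W x hx r₂)]
      | smul ρ z _ h =>
        obtain ⟨r, hr, n, hn, e⟩ := h
        let _ := X.presheaf.algebra_section_stalk ⟨x, hx⟩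
        have := hW.isLocalization_stalk ⟨x, hx⟩
        obtain ⟨⟨a, s⟩, hs⟩ := IsLocalization.surj P ρ
        have hs' : ρ * X.presheaf.germ W x hx s.1 = X.presheaf.germ W x hx a := hs
        refine ⟨s.1 * r, P.mul_mem s.2 hr, a • n, N.smul_mem _ hn, ?_⟩
        rw [germ_smul, ← e, map_mul, smul_smul, smul_smul, ← hs']
        congr 1
        ring
    obtain ⟨r, hr, n, hn, e⟩ := hQ (F.presheaf.germ W x hx y)
    have e' : germₗ F W x hx (r • y - n) = 0 := by
      rw [germₗ_apply, map_sub, germ_smul, e, sub_self]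
    obtain ⟨c, hc⟩ := (IsLocalizedModule.eq_zero_iff P (germₗ F W x hx)).1 e'
    refine ⟨c.1 * r, ?_, ?_⟩
    · rw [hJmem, mul_smul]
      have : c.1 • (r • y) = c.1 • n := by
        have h2 : c.1 • (r • y - n) = 0 := hc
        rw [smul_sub, sub_eq_zero] at h2
        exact h2
      rw [this]
      exact N.smul_mem _ hn
    · exact (notMem_primeIdealOf_iff hW x hx _).1 (P.mul_mem c.2 hr)
  have hcov : ⨆ f : (J : Set Γ(X, W)), X.basicOpen (f : Γ(X, W)) = W := by
    apply le_antisymm
    · exact iSup_le fun f => X.basicOpen_le _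
    · intro x hx
      obtain ⟨r, hr, hxr⟩ := key x hx
      exact Opens.mem_iSup.2 ⟨⟨r, hr⟩, hxr⟩
  have := (IsAffineOpen.iSup_basicOpen_eq_self_iff hW (s := (J : Set Γ(X, W)))).1 hcov
  rwa [Ideal.span_eq] at this

end Groth.Agent.Lib.BlowUp.GlobGenSpan
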