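import Groth.Agent.Lib.BlowUp.Helper18_EffCartier

/-!
# Tools for the affine blow-up criterion (helper18)

Namespace `Groth.Agent.Lib.BlowUp`.
-/

universe u

open CategoryTheory CategoryTheory.Limits AlgebraicGeometry Opposite TopologicalSpace

namespace Groth.Agent.Lib.BlowUp

/-- If `I·R = (t)` with `t` a nonzerodivisor and every square `i²` (`i ∈ I`) is `a₀ i₂` with
`i₂ ∈ I`, then the image of `a₀` is a unit multiple of `t`. -/
theorem exists_unit_mul_eq_of_sq {R A : Type*} [CommRing R] [CommRing A] (I : Ideal A)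
    (ψ : A →+* R) (a₀ : A) (ha₀ : a₀ ∈ I) (hsq : ∀ i ∈ I, ∃ i₂ ∈ I, i * i = a₀ * i₂) (t : R)
    (ht : t ∈ nonZeroDivisors R) (hJ : I.map ψ = Ideal.span {t}) :
    ∃ u : Rˣ, ψ a₀ = u * t := by
  have hmem : ∀ i ∈ I, ∃ c, ψ i = c * t := by
    intro i hi
    have h1 : ψ i ∈ Ideal.span {t} := hJ ▸ Ideal.mem_map_of_mem ψ hi
    obtain ⟨c, hc⟩ := Ideal.mem_span_singleton'.1 h1
    exact ⟨c, hc.symm⟩
  obtain ⟨u, hu⟩ := hmem a₀ ha₀
  let S : Set R := {c | ∃ i ∈ I, ψ i = c * t}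
  have hcancel : ∀ a b : R, a * t = b * t → a = b := by
    intro a b hab
    have h1 : (a - b) * t = 0 := by rw [sub_mul, hab, sub_self]
    exact sub_eq_zero.1 ((mem_nonZeroDivisors_iff.1 ht).2 _ h1)
  have claim1 : ∀ x ∈ I.map ψ, ∃ c ∈ Ideal.span S, x = c * t := by
    intro x hx
    refine Submodule.span_induction (p := fun x _ => ∃ c ∈ Ideal.span S, x = c * t)
      ?_ ?_ ?_ ?_ hx
    · rintro _ ⟨i, hi, rfl⟩
      obtain ⟨c, hc⟩ := hmem i hi
      exact ⟨c, Ideal.subset_span ⟨i, hi, hc⟩, hc⟩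
    · exact ⟨0, Ideal.zero_mem _, by simp⟩
    · rintro x y _ _ ⟨c₁, h₁, rfl⟩ ⟨c₂, h₂, rfl⟩
      exact ⟨c₁ + c₂, Ideal.add_mem _ h₁ h₂, by ring⟩
    · rintro r x _ ⟨c, hc, rfl⟩
      exact ⟨r * c, Ideal.mul_mem_left _ _ hc, by simp [mul_assoc]⟩
  have hS : Ideal.span S = ⊤ := by
    obtain ⟨c, hc, hct⟩ := claim1 t (hJ ▸ Ideal.mem_span_singleton_self t)
    have h1 : c = 1 := hcancel c 1 (by rw [one_mul]; exact hct.symm)
    rw [Ideal.eq_top_iff_one]
    exact h1 ▸ hc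
  have hS2 := Ideal.span_pow_eq_top S hS 2
  have hle : Ideal.span ((fun x => x ^ 2) '' S) ≤ Ideal.span {u} := by
    rw [Ideal.span_le]
    rintro _ ⟨c, ⟨i, hi, hc⟩, rfl⟩
    obtain ⟨i₂, hi₂, hii⟩ := hsq i hi
    obtain ⟨c₂, hc₂⟩ := hmem i₂ hi₂
    have h1 : c ^ 2 * (t * t) = (u * c₂) * (t * t) := by
      have := congrArg ψ hii
      rw [map_mul, map_mul, hc, hu, hc₂] at this
      calc c ^ 2 * (t * t) = c * t * (c * t) := by ring
        _ = u * t * (c₂ * t) := this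
        _ = (u * c₂) * (t * t) := by ring
    have h2 : c ^ 2 = u * c₂ := by
      have ht2 : t * t ∈ nonZeroDivisors R := mul_mem ht ht
      have h3 : (c ^ 2 - u * c₂) * (t * t) = 0 := by rw [sub_mul, h1, sub_self]
      exact sub_eq_zero.1 ((mem_nonZeroDivisors_iff.1 ht2).2 _ h3)
    change c ^ 2 ∈ Ideal.span {u}
    rw [h2]
    exact Ideal.mul_mem_right _ _ (Ideal.mem_span_singleton_self u)
  have hu1 : Ideal.span {u} = ⊤ := top_le_iff.1 (hS2 ▸ hle)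
  have huu : IsUnit u := Ideal.span_singleton_eq_top.1 hu1
  exact ⟨huu.unit, by rw [hu]; rfl⟩

/-- Gluing quotients by a regular section. -/
theorem exists_mul_eq_of_locally {Y : Scheme.{u}} (e m : Γ(Y, ⊤)) (he : e ∈ Mero.regSub Y ⊤)
    (H : ∀ y : Y, ∃ (W : Y.Opens) (_ : y ∈ W) (q : Γ(Y, W)),
      q * Y.presheaf.map (homOfLE le_top).op e = Y.presheaf.map (homOfLE le_top).op m) :
    ∃ q : Γ(Y, ⊤), q * e = m := by
  choose W hyW q hq using H
  have hnzd : ∀ V : Y.Opens, Y.presheaf.map (homOfLE (le_top : V ≤ ⊤)).op e ∈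
      nonZeroDivisors Γ(Y, V) := fun V =>
    mem_nonZeroDivisors_of_mem_regSub _ (Mero.regSub_res (homOfLE le_top) he)
  have res_res : ∀ {U V Z : Y.Opens} (h₁ : V ≤ U) (h₂ : Z ≤ V) (x : Γ(Y, U)),
      Y.presheaf.map (homOfLE h₂).op (Y.presheaf.map (homOfLE h₁).op x) =
        Y.presheaf.map (homOfLE (h₂.trans h₁)).op x := by
    intro U V Z h₁ h₂ x
    rw [← ConcreteCategory.comp_apply, ← Functor.map_comp]
    rfl
  have hcompat : TopCat.Presheaf.IsCompatible Y.sheaf.1 W q := by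
    intro y z
    change Y.presheaf.map (homOfLE (inf_le_left : W y ⊓ W z ≤ W y)).op (q y) =
      Y.presheaf.map (homOfLE (inf_le_right : W y ⊓ W z ≤ W z)).op (q z)
    have h1 := congrArg (Y.presheaf.map (homOfLE (inf_le_left : W y ⊓ W z ≤ W y)).op) (hq y)
    have h2 := congrArg (Y.presheaf.map (homOfLE (inf_le_right : W y ⊓ W z ≤ W z)).op) (hq z)
    rw [map_mul, res_res, res_res] at h1 h2
    have h3 : (Y.presheaf.map (homOfLE (inf_le_left : W y ⊓ W z ≤ W y)).op (q y) -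
        Y.presheaf.map (homOfLE (inf_le_right : W y ⊓ W z ≤ W z)).op (q z)) *
        Y.presheaf.map (homOfLE (le_top : W y ⊓ W z ≤ ⊤)).op e = 0 := by
      rw [sub_mul]
      exact sub_eq_zero.2 (h1.trans h2.symm)
    exact sub_eq_zero.1 ((mem_nonZeroDivisors_iff.1 (hnzd _)).2 _ h3)
  have hcover : (⊤ : Y.Opens) ≤ iSup W := fun y _ =>
    Opens.mem_iSup.2 ⟨y, hyW y⟩
  obtain ⟨s, hs, -⟩ := Y.sheaf.existsUnique_gluing' W ⊤ (fun y => homOfLE le_top) hcover q hcompat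
  obtain ⟨s', rfl⟩ : ∃ s' : Γ(Y, ⊤), s' = s := ⟨s, rfl⟩
  refine ⟨s', ?_⟩
  apply Y.sheaf.eq_of_locally_eq' W ⊤ (fun y => homOfLE le_top) hcover
  intro y
  change Y.presheaf.map (homOfLE le_top).op (s' * e) = Y.presheaf.map (homOfLE le_top).op m
  rw [map_mul, ← hq y]
  congr 1
  exact hs y

end Groth.Agent.Lib.BlowUp
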