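import Groth.Prelude
import Groth.Agent.Lib.Helper20.IdealComap
import Groth.Agent.Lib.QCoh.Helper18_SchDenseExt

/-!
# Blow-ups via the universal property: basics (helper18)

Namespace `Groth.Agent.Lib.BlowUp`.  Everything here uses only the definition
`BlowUp.IsBlowUp b 𝓘` (universal property); no construction of blow-ups is needed.

* `isEffCartierIdeal_top` : the unit ideal is effective Cartier.
* `comap_eq_top_of_forall_notMem_support` : `𝓘.comap g = ⊤` when `g` misses the support of `𝓘`.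
* `isIso_morphismRestrict_of_isBlowUp` : a blow-up is an isomorphism over every open missing the
  centre.
* `isSchematicallyDense_of_isEffCartierIdeal` : every open containing the complement of an effective
  Cartier divisor is schematically dense.
-/

universe u

open CategoryTheory CategoryTheory.Limits AlgebraicGeometry Opposite TopologicalSpace

namespace Groth.Agent.Lib.BlowUp

variable {X : Scheme.{u}}

theorem isEffCartierIdeal_top : BlowUp.IsEffCartierIdeal (⊤ : X.IdealSheafData) := by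
  intro x
  obtain ⟨V, hV0, hxV, -⟩ := Opens.isBasis_iff_nbhd.1 (X.isBasis_affineOpens)
    (show x ∈ (⊤ : X.Opens) from trivial)
  refine ⟨⟨V, hV0⟩, hxV, 1, one_mem _, ?_⟩
  rw [Scheme.IdealSheafData.ideal_top]
  change (⊤ : Ideal _) = _
  rw [Ideal.span_singleton_one]

theorem comap_eq_top_of_forall_notMem_support {Y : Scheme.{u}} (𝓘 : X.IdealSheafData) (g : Y ⟶ X)
    (h : ∀ y : Y, g y ∉ 𝓘.support) : 𝓘.comap g = ⊤ := by
  rw [← Scheme.IdealSheafData.support_eq_bot_iff, Scheme.IdealSheafData.support_comap]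
  ext y
  simp only [Closeds.coe_bot, Set.mem_empty_iff_false, iff_false]
  exact h y

theorem isEffCartierIdeal_comap_of_forall_notMem_support {Y : Scheme.{u}} (𝓘 : X.IdealSheafData)
    (g : Y ⟶ X) (h : ∀ y : Y, g y ∉ 𝓘.support) : BlowUp.IsEffCartierIdeal (𝓘.comap g) := by
  rw [comap_eq_top_of_forall_notMem_support 𝓘 g h]
  exact isEffCartierIdeal_top

/-- A blow-up is an isomorphism over every open subset which does not meet the centre. -/
theorem isIso_morphismRestrict_of_isBlowUp {X' : Scheme.{u}} (𝓘 : X.IdealSheafData) (b : X' ⟶ X)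
    (hb : BlowUp.IsBlowUp b 𝓘) (U : X.Opens) (hU : ∀ x ∈ U, x ∉ 𝓘.support) : IsIso (b ∣_ U) := by
  have hUι : BlowUp.IsEffCartierIdeal (𝓘.comap U.ι) :=
    isEffCartierIdeal_comap_of_forall_notMem_support 𝓘 U.ι (fun y => hU _ y.2)
  obtain ⟨h, hh, -⟩ := hb.2 U U.ι hUι
  have hh' : h ≫ b = U.ι := hh
  have hr : Set.range h ⊆ Set.range (b ⁻¹ᵁ U).ι := by
    rintro _ ⟨u, rfl⟩
    rw [Scheme.Opens.range_ι]
    change b (h u) ∈ U
    rw [← Scheme.Hom.comp_apply, hh']
    exact u.2
  set h' : (U : Scheme.{u}) ⟶ (b ⁻¹ᵁ U : X'.Opens) := IsOpenImmersion.lift (b ⁻¹ᵁ U).ι h hr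
    with hh'def
  have hh'1 : h' ≫ (b ⁻¹ᵁ U).ι = h := IsOpenImmersion.lift_fac _ _ _
  have h1 : h' ≫ (b ∣_ U) = 𝟙 _ := by
    rw [← cancel_mono U.ι, Category.assoc, morphismRestrict_ι, ← Category.assoc, hh'1, hh',
      Category.id_comp]
  have h2 : (b ∣_ U) ≫ h' = 𝟙 _ := by
    rw [← cancel_mono (b ⁻¹ᵁ U).ι, Category.assoc, hh'1, Category.id_comp]
    have hE : BlowUp.IsEffCartierIdeal (𝓘.comap ((b ⁻¹ᵁ U).ι ≫ b)) :=
      isEffCartierIdeal_comap_of_forall_notMem_support 𝓘 _ (fun y => hU _ y.2)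
    obtain ⟨k, -, hk⟩ := hb.2 _ ((b ⁻¹ᵁ U).ι ≫ b) hE
    have e1 : (b ∣_ U) ≫ h = k := hk _ (by
      change ((b ∣_ U) ≫ h) ≫ b = _
      rw [Category.assoc, hh', morphismRestrict_ι])
    have e2 : (b ⁻¹ᵁ U).ι = k := hk _ rfl
    rw [e1, e2]
  exact ⟨⟨h', h2, h1⟩⟩

/-- Every open set containing the complement of (the support of) an effective Cartier divisor is
schematically dense. -/
theorem isSchematicallyDense_of_isEffCartierIdeal (𝓓 : X.IdealSheafData)
    (hD : BlowUp.IsEffCartierIdeal 𝓓) (U : X.Opens) (hU : ∀ x : X, x ∉ 𝓓.support → x ∈ U) :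
    CInt.IsSchematicallyDense U := by
  apply Groth.Agent.Lib.QCoh.isSchematicallyDense_of_regular_mem_maximalIdeal
  intro z hz
  have hzs : z ∈ 𝓓.support := by
    by_contra hcon
    exact hz (hU z hcon)
  obtain ⟨V, hzV, t, ht, hI⟩ := hD z
  refine ⟨X.presheaf.germ V.1 z hzV t, ?_, ?_⟩
  · rw [Scheme.IdealSheafData.mem_support_iff_of_mem (U := V) hzV, Scheme.mem_zeroLocus_iff] at hzs
    have h1 : z ∉ X.basicOpen t := hzs t (by rw [hI]; exact Ideal.mem_span_singleton_self t)
    rw [Scheme.mem_basicOpen _ _ _ hzV] at h1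
    exact h1
  · have := V.2.isLocalization_stalk ⟨z, hzV⟩
    let _ : Algebra Γ(X, V.1) (X.presheaf.stalk z) :=
      TopCat.Presheaf.algebra_section_stalk X.presheaf ⟨z, hzV⟩
    have h2 : algebraMap Γ(X, V.1) (X.presheaf.stalk z) t ∈ nonZeroDivisors (X.presheaf.stalk z) :=
      IsLocalization.map_nonZeroDivisors_le (V.2.primeIdealOf ⟨z, hzV⟩).asIdeal.primeCompl
        (X.presheaf.stalk z) (Submonoid.mem_map_of_mem _ ht)
    have h3 : X.presheaf.germ V.1 z hzV t ∈ nonZeroDivisors (X.presheaf.stalk z) := h2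
    intro a b hab
    have := (mem_nonZeroDivisors_iff_right.1 h3) (a - b) (by
      rw [sub_mul, mul_comm a, mul_comm b]
      exact sub_eq_zero.2 hab)
    exact sub_eq_zero.1 this

end Groth.Agent.Lib.BlowUp
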