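import Groth.Agent.Lib.BlowUp.Helper18_Regular
import Mathlib.AlgebraicGeometry.Morphisms.Flat
import Mathlib.RingTheory.Flat.TorsionFree

/-!
# Operations on effective Cartier ideals (helper18)

Namespace `Groth.Agent.Lib.BlowUp`.

* `IsEffCartierIdeal.exists_le` : an effective Cartier ideal is generated by a nonzerodivisor on
  arbitrarily small affine neighbourhoods.
* `isEffCartierIdeal_mul` : product of effective Cartier ideals.
* `isEffCartierIdeal_comap_of_flat` : flat pullback.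
* `isEffCartierIdeal_of_mul_left` : if `𝓘 * 𝓙` is effective Cartier so is `𝓘`.
-/

universe u

open CategoryTheory CategoryTheory.Limits AlgebraicGeometry Opposite TopologicalSpace
open Groth.Agent.Lib.QCoh

namespace Groth.Agent.Lib.BlowUp

variable {X : Scheme.{u}}

/-- Restriction of a nonzerodivisor on an affine open to a smaller open is a nonzerodivisor. -/
theorem res_mem_nonZeroDivisors {V W : X.Opens} (hV : IsAffineOpen V) (h : W ≤ V) (d : Γ(X, V))
    (hd : d ∈ nonZeroDivisors Γ(X, V)) :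
    X.presheaf.map (homOfLE h).op d ∈ nonZeroDivisors Γ(X, W) :=
  mem_nonZeroDivisors_of_mem_regSub _
    (Mero.regSub_res (homOfLE h) (mem_regSub_of_mem_nonZeroDivisors hV d hd))

/-- An effective Cartier ideal is generated by one nonzerodivisor on every small enough affine
neighbourhood of a point. -/
theorem exists_le_of_isEffCartierIdeal {𝓓 : X.IdealSheafData} (hD : BlowUp.IsEffCartierIdeal 𝓓)
    (x : X) (O : X.Opens) (hxO : x ∈ O) :
    ∃ U : X.affineOpens, x ∈ U.1 ∧ U.1 ≤ O ∧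
      ∃ f : Γ(X, U.1), f ∈ nonZeroDivisors Γ(X, U.1) ∧ 𝓓.ideal U = Ideal.span {f} := by
  obtain ⟨V, hxV, d, hd, hI⟩ := hD x
  obtain ⟨W, hW0, hxW, hWle⟩ := Opens.isBasis_iff_nbhd.1 (X.isBasis_affineOpens)
    (show x ∈ V.1 ⊓ O from ⟨hxV, hxO⟩)
  have hWV : W ≤ V.1 := hWle.trans inf_le_left
  refine ⟨⟨W, hW0⟩, hxW, hWle.trans inf_le_right, X.presheaf.map (homOfLE hWV).op d,
    res_mem_nonZeroDivisors V.2 hWV d hd, ?_⟩
  have h1 := 𝓓.map_ideal (U := ⟨W, hW0⟩) (V := V) hWV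
  rw [← h1, hI, Ideal.map_span, Set.image_singleton]
  rfl

theorem isEffCartierIdeal_mul {𝓘 𝓙 : X.IdealSheafData} (hI : BlowUp.IsEffCartierIdeal 𝓘)
    (hJ : BlowUp.IsEffCartierIdeal 𝓙) : BlowUp.IsEffCartierIdeal (𝓘 * 𝓙) := by
  intro x
  obtain ⟨V, hxV, a, ha, hIa⟩ := hI x
  obtain ⟨W, hxW, hWV, c, hc, hJc⟩ := exists_le_of_isEffCartierIdeal hJ x V.1 hxV
  refine ⟨W, hxW, X.presheaf.map (homOfLE hWV).op a * c,
    mul_mem (res_mem_nonZeroDivisors V.2 hWV a ha) hc, ?_⟩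
  have h1 := 𝓘.map_ideal (U := W) (V := V) hWV
  rw [Scheme.IdealSheafData.ideal_mul]
  change 𝓘.ideal W * 𝓙.ideal W = _
  rw [← h1, hIa, hJc, Ideal.map_span, Set.image_singleton, Ideal.span_singleton_mul_span_singleton]
  rfl

theorem isEffCartierIdeal_comap_of_flat {X' : Scheme.{u}} (f : X' ⟶ X) [Flat f]
    (𝓓 : X.IdealSheafData) (hD : BlowUp.IsEffCartierIdeal 𝓓) :
    BlowUp.IsEffCartierIdeal (𝓓.comap f) := by
  intro x
  obtain ⟨V, hxV, d, hd, hI⟩ := hD (f x)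
  have hxV' : x ∈ f ⁻¹ᵁ V.1 := hxV
  obtain ⟨W, hW0, hxW, hWV⟩ := Opens.isBasis_iff_nbhd.1 (X'.isBasis_affineOpens) hxV'
  have hW : IsAffineOpen W := hW0
  refine ⟨⟨W, hW⟩, hxW, (f.appLE V.1 W hWV).hom d, ?_, ?_⟩
  · have hflat : (f.appLE V.1 W hWV).hom.Flat := Flat.flat_appLE f V.2 hW hWV
    algebraize [(f.appLE V.1 W hWV).hom]
    have hreg : IsSMulRegular Γ(X', W) d := Module.Flat.isSMulRegular_of_nonZeroDivisors hd
    rw [mem_nonZeroDivisors_iff_right]
    intro z hz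
    apply hreg
    change d • z = d • 0
    rw [smul_zero, Algebra.smul_def, mul_comm]
    exact hz
  · rw [Groth.Agent.Lib.Helper20.ideal_comap f 𝓓 ⟨W, hW⟩ V hWV, hI, Ideal.map_span,
      Set.image_singleton]

end Groth.Agent.Lib.BlowUp
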