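import Groth.Agent.Lib.BlowUp.Helper18_EffCartier
import Groth.Agent.Lib.Helper12.FlatExact
import Mathlib.AlgebraicGeometry.IdealSheaf.Subscheme

/-!
# Flatness of closed subschemes over a base, ring-level criteria (helper18)

Namespace `Groth.Agent.Lib.BlowUp`.
-/

universe u

open CategoryTheory CategoryTheory.Limits AlgebraicGeometry Opposite TopologicalSpace

namespace Groth.Agent.Lib.BlowUp

section Algebra

variable {A B : Type u} [CommRing A] [CommRing B] [Algebra A B]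

/-- multiplication by `t₁` as a `B`-linear map `B ⧸ (t) → B ⧸ (t₁ t)`. -/
noncomputable def mulQ (t₁ t : B) : (B ⧸ Ideal.span {t}) →ₗ[B] (B ⧸ Ideal.span {t₁ * t}) :=
  Submodule.mapQ (Ideal.span {t}) (Ideal.span {t₁ * t}) (LinearMap.mulLeft B t₁) (by
    intro b hb
    obtain ⟨c, rfl⟩ := Ideal.mem_span_singleton'.1 hb
    change t₁ * (c * t) ∈ Ideal.span {t₁ * t}
    exact Ideal.mem_span_singleton'.2 ⟨c, by ring⟩)

/-- the projection `B ⧸ (t₁ t) → B ⧸ (t₁)`. -/
noncomputable def projQ (t₁ t : B) : (B ⧸ Ideal.span {t₁ * t}) →ₗ[B] (B ⧸ Ideal.span {t₁}) :=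
  Submodule.mapQ (Ideal.span {t₁ * t}) (Ideal.span {t₁}) LinearMap.id (by
    intro b hb
    obtain ⟨c, rfl⟩ := Ideal.mem_span_singleton'.1 hb
    change c * (t₁ * t) ∈ Ideal.span {t₁}
    exact Ideal.mem_span_singleton'.2 ⟨c * t, by ring⟩)

theorem mulQ_injective (t₁ t : B) (h₁ : t₁ ∈ nonZeroDivisors B) :
    Function.Injective (mulQ t₁ t) := by
  rw [injective_iff_map_eq_zero]
  intro x hx
  obtain ⟨b, rfl⟩ := Submodule.Quotient.mk_surjective _ x
  change Submodule.Quotient.mk (t₁ * b) = 0 at hx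
  rw [Submodule.Quotient.mk_eq_zero] at hx ⊢
  obtain ⟨c, hc⟩ := Ideal.mem_span_singleton'.1 hx
  refine Ideal.mem_span_singleton'.2 ⟨c, ?_⟩
  have : t₁ * (c * t - b) = 0 := by rw [mul_sub, ← hc]; ring
  have h2 := (mem_nonZeroDivisors_iff.1 h₁).1 _ this
  exact sub_eq_zero.1 h2

theorem projQ_surjective (t₁ t : B) : Function.Surjective (projQ t₁ t) := by
  intro x
  obtain ⟨b, rfl⟩ := Submodule.Quotient.mk_surjective _ x
  exact ⟨Submodule.Quotient.mk b, rfl⟩

theorem exact_mulQ_projQ (t₁ t : B) : Function.Exact (mulQ t₁ t) (projQ t₁ t) := by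
  intro y
  obtain ⟨b, rfl⟩ := Submodule.Quotient.mk_surjective _ y
  constructor
  · intro h
    change Submodule.Quotient.mk b = 0 at h
    rw [Submodule.Quotient.mk_eq_zero] at h
    obtain ⟨c, rfl⟩ := Ideal.mem_span_singleton'.1 h
    refine ⟨Submodule.Quotient.mk c, ?_⟩
    change Submodule.Quotient.mk (t₁ * c) = Submodule.Quotient.mk (c * t₁)
    rw [mul_comm t₁ c]
  · rintro ⟨x, hx⟩
    obtain ⟨c, rfl⟩ := Submodule.Quotient.mk_surjective _ x
    rw [← hx]
    change Submodule.Quotient.mk (t₁ * c) = 0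
    rw [Submodule.Quotient.mk_eq_zero]
    exact Ideal.mem_span_singleton'.2 ⟨c, by ring⟩

/-- `B/(t₁)` and `B/(t)` flat over `A`, `t₁` a nonzerodivisor ⇒ `B/(t₁ t)` flat over `A`. -/
theorem flat_quotient_mul (t₁ t : B) (h₁ : t₁ ∈ nonZeroDivisors B)
    (hf₁ : Module.Flat A (B ⧸ Ideal.span {t₁})) (hf : Module.Flat A (B ⧸ Ideal.span {t})) :
    Module.Flat A (B ⧸ Ideal.span {t₁ * t}) :=
  Groth.Agent.Lib.Helper12.flat_of_exact_middle ((mulQ t₁ t).restrictScalars A)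
    ((projQ t₁ t).restrictScalars A) (mulQ_injective t₁ t h₁) (projQ_surjective t₁ t)
    (exact_mulQ_projQ t₁ t)

/-- `B/(t₁)` and `B/(t₁ t)` flat over `A`, `t₁` a nonzerodivisor ⇒ `B/(t)` flat over `A`. -/
theorem flat_quotient_of_mul (t₁ t : B) (h₁ : t₁ ∈ nonZeroDivisors B)
    (hf₁ : Module.Flat A (B ⧸ Ideal.span {t₁})) (hf : Module.Flat A (B ⧸ Ideal.span {t₁ * t})) :
    Module.Flat A (B ⧸ Ideal.span {t}) :=
  Groth.Agent.Lib.Helper12.flat_of_exact_left ((mulQ t₁ t).restrictScalars A)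
    ((projQ t₁ t).restrictScalars A) (mulQ_injective t₁ t h₁) (projQ_surjective t₁ t)
    (exact_mulQ_projQ t₁ t)

/-- Flatness of `A → B → C` with `B → C` surjective with kernel `I` is flatness of `B ⧸ I`. -/
theorem flat_comp_iff_of_surjective {C : Type u} [CommRing C] (q : B →+* C)
    (hq : Function.Surjective q) (I : Ideal B) (hI : RingHom.ker q = I) :
    (q.comp (algebraMap A B)).Flat ↔ Module.Flat A (B ⧸ I) := by
  subst hI
  let _ : Algebra A C := (q.comp (algebraMap A B)).toAlgebra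
  let e : (B ⧸ RingHom.ker q) ≃+* C := RingHom.quotientKerEquivOfSurjective hq
  let e' : (B ⧸ RingHom.ker q) ≃ₗ[A] C :=
    { e with
      map_smul' := by
        intro a x
        obtain ⟨b, rfl⟩ := Ideal.Quotient.mk_surjective x
        simp only [RingHom.id_apply]
        change e (a • (Ideal.Quotient.mk _ b)) = a • e (Ideal.Quotient.mk _ b)
        rw [Algebra.smul_def, Algebra.smul_def, map_mul]
        rfl }
  change Module.Flat A C ↔ _
  exact ⟨fun h => Module.Flat.of_linearEquiv e', fun h => Module.Flat.of_linearEquiv e'.symm⟩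

end Algebra

section Scheme

variable {X S : Scheme.{u}}

theorem stableUnderCompositionWithLocalizationAwaySource_flat :
    RingHom.StableUnderCompositionWithLocalizationAwaySource RingHom.Flat := by
  intro R S T _ _ _ _ r _ f hf
  exact RingHom.Flat.comp (RingHom.Flat.holdsForLocalizationAway S r) hf

/-- the comparison of `appLE` of `𝓘.subschemeι ≫ f` with the quotient map. -/
theorem subschemeι_comp_appLE (f : X ⟶ S) (𝓘 : X.IdealSheafData) (U : S.Opens) (V : X.affineOpens)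
    (e : V.1 ≤ f ⁻¹ᵁ U) :
    (𝓘.subschemeι ≫ f).appLE U (𝓘.subschemeι ⁻¹ᵁ V.1)
        (fun _ hz => e hz) = f.appLE U V.1 e ≫ 𝓘.subschemeι.app V.1 := by
  rw [Scheme.Hom.app_eq_appLE, Scheme.Hom.appLE_comp_appLE]

/-- ring-level consequence of flatness of a closed subscheme over a base. -/
theorem flat_quotient_of_flat_subschemeι_comp (f : X ⟶ S) (𝓘 : X.IdealSheafData)
    (hfl : Flat (𝓘.subschemeι ≫ f)) (U : S.affineOpens) (V : X.affineOpens)
    (e : V.1 ≤ f ⁻¹ᵁ U.1) :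
    letI := (f.appLE U.1 V.1 e).hom.toAlgebra
    Module.Flat Γ(S, U.1) (Γ(X, V.1) ⧸ 𝓘.ideal V) := by
  let _ := (f.appLE U.1 V.1 e).hom.toAlgebra
  have hVT : IsAffineOpen (𝓘.subschemeι ⁻¹ᵁ V.1) := V.2.preimage 𝓘.subschemeι
  have h1 : ((𝓘.subschemeι ≫ f).appLE U.1 (𝓘.subschemeι ⁻¹ᵁ V.1) (fun _ hz => e hz)).hom.Flat :=
    Flat.flat_appLE (𝓘.subschemeι ≫ f) U.2 hVT _
  rw [subschemeι_comp_appLE] at h1
  exact (flat_comp_iff_of_surjective (A := Γ(S, U.1)) (𝓘.subschemeι.app V.1).hom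
    (𝓘.subschemeι_app_surjective V) (𝓘.ideal V) (𝓘.ker_subschemeι_app V)).1 h1

/-- ring-level criterion for flatness of a closed subscheme over a base. -/
theorem flat_subschemeι_comp_of_forall_exists (f : X ⟶ S) (𝓘 : X.IdealSheafData)
    (H : ∀ x ∈ 𝓘.support, ∃ (U : S.affineOpens) (V : X.affineOpens) (_ : x ∈ V.1)
      (e : V.1 ≤ f ⁻¹ᵁ U.1), letI := (f.appLE U.1 V.1 e).hom.toAlgebra
        Module.Flat Γ(S, U.1) (Γ(X, V.1) ⧸ 𝓘.ideal V)) :
    Flat (𝓘.subschemeι ≫ f) := by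
  rw [HasRingHomProperty.iff_exists_appLE (P := @Flat)
    stableUnderCompositionWithLocalizationAwaySource_flat]
  intro z
  have hz : 𝓘.subschemeι z ∈ 𝓘.support := by
    have h0 : 𝓘.subschemeι z ∈ Set.range 𝓘.subschemeι := ⟨z, rfl⟩
    rw [𝓘.range_subschemeι] at h0
    exact h0
  obtain ⟨U, V, hxV, e, hfl⟩ := H _ hz
  let _ := (f.appLE U.1 V.1 e).hom.toAlgebra
  refine ⟨U, ⟨𝓘.subschemeι ⁻¹ᵁ V.1, V.2.preimage 𝓘.subschemeι⟩, hxV, fun _ hz => e hz, ?_⟩
  change ((𝓘.subschemeι ≫ f).appLE U.1 (𝓘.subschemeι ⁻¹ᵁ V.1) _).hom.Flat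
  rw [subschemeι_comp_appLE]
  exact (flat_comp_iff_of_surjective (A := Γ(S, U.1)) (𝓘.subschemeι.app V.1).hom
    (𝓘.subschemeι_app_surjective V) (𝓘.ideal V) (𝓘.ker_subschemeι_app V)).2 hfl

end Scheme

end Groth.Agent.Lib.BlowUp
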