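import Groth.Agent.Lib.BlowUp.Helper18_Regular

/-!
# Blow-ups: generic points (helper18)

Namespace `Groth.Agent.Lib.BlowUp`.

* `notMem_support_of_generic` : a point of the blow-up without proper generizations does not lie on
  the exceptional divisor.
* `bijOn_generic_of_isBlowUp` : the blow-up induces a bijection between the maximal points of `X'`
  and the maximal points of `X` outside the centre.
-/

universe u

open CategoryTheory CategoryTheory.Limits AlgebraicGeometry Opposite TopologicalSpace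
open Groth.Agent.Lib.QCoh

namespace Groth.Agent.Lib.BlowUp

variable {X X' : Scheme.{u}}

/-- A maximal point does not lie on an effective Cartier divisor. -/
theorem notMem_support_of_isEffCartierIdeal_of_generic (𝓓 : X.IdealSheafData)
    (hD : BlowUp.IsEffCartierIdeal 𝓓) (x : X) (hx : ∀ y : X, y ⤳ x → y = x) : x ∉ 𝓓.support := by
  intro hE
  obtain ⟨W, hxW, t, ht, hI⟩ := hD x
  have hreg := mem_regSub_of_mem_nonZeroDivisors W.2 t ht ⟨x, hxW⟩
  have hunit := isUnit_of_mem_nonZeroDivisors_of_generic x hx _ hreg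
  rw [Scheme.IdealSheafData.mem_support_iff_of_mem (U := W) hxW, Scheme.mem_zeroLocus_iff] at hE
  exact hE t (by rw [hI]; exact Ideal.mem_span_singleton_self t)
    ((Scheme.mem_basicOpen _ _ _ hxW).2 hunit)

theorem notMem_support_of_generic (𝓘 : X.IdealSheafData) (b : X' ⟶ X)
    (hb : BlowUp.IsBlowUp b 𝓘) (x' : X') (hx' : ∀ y : X', y ⤳ x' → y = x') :
    b x' ∉ 𝓘.support := by
  intro hmem
  have hE : x' ∈ (𝓘.comap b).support := by
    rw [Scheme.IdealSheafData.support_comap]; exact hmem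
  exact notMem_support_of_isEffCartierIdeal_of_generic _ hb.1 x' hx' hE

section Iso

variable (𝓘 : X.IdealSheafData) (b : X' ⟶ X) (hb : BlowUp.IsBlowUp b 𝓘)

include hb in
/-- Over the complement `V` of the centre, specializations can be lifted: if `b x'` lies in `V` and
`y ⤳ b x'`, then `y = b y'` for some `y' ⤳ x'`. -/
theorem exists_specializes_of_specializes_map (x' : X') (hx' : b x' ∉ 𝓘.support) (y : X)
    (hy : y ⤳ b x') : ∃ y' : X', y' ⤳ x' ∧ b y' = y := by
  set V : X.Opens := 𝓘.support.compl with hV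
  have hiso : IsIso (b ∣_ V) := isIso_morphismRestrict_of_isBlowUp 𝓘 b hb V (fun x hx => hx)
  have hx'V : x' ∈ b ⁻¹ᵁ V := hx'
  have hyV : y ∈ V := hy.mem_open V.2 hx'
  let yV : (V : Scheme.{u}) := ⟨y, hyV⟩
  let xV : (V : Scheme.{u}) := ⟨b x', hx'⟩
  let x'V : ((b ⁻¹ᵁ V : X'.Opens) : Scheme.{u}) := ⟨x', hx'V⟩
  have hsp : yV ⤳ xV := (subtype_specializes_iff yV xV).2 hy
  have hex : (b ∣_ V) x'V = xV := Subtype.ext (morphismRestrict_base_coe b V x'V)
  have h1 : (inv (b ∣_ V)) yV ⤳ (inv (b ∣_ V)) xV := hsp.map (inv (b ∣_ V)).continuous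
  have h2 : (inv (b ∣_ V)) xV = x'V := by
    rw [← hex, ← Scheme.Hom.comp_apply, IsIso.hom_inv_id]
    rfl
  rw [h2] at h1
  refine ⟨((inv (b ∣_ V)) yV).1, (subtype_specializes_iff _ _).1 h1, ?_⟩
  have h3 : (b ∣_ V) ((inv (b ∣_ V)) yV) = yV := by
    rw [← Scheme.Hom.comp_apply, IsIso.inv_hom_id]
    rfl
  have h4 := morphismRestrict_base_coe b V ((inv (b ∣_ V)) yV)
  rw [h3] at h4
  exact h4.symm

include hb in
/-- Over the complement of the centre the blow-up is injective on points. -/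
theorem eq_of_map_eq_of_notMem_support (x₁ x₂ : X') (h₁ : b x₁ ∉ 𝓘.support)
    (h : b x₁ = b x₂) : x₁ = x₂ := by
  set V : X.Opens := 𝓘.support.compl with hV
  have hiso : IsIso (b ∣_ V) := isIso_morphismRestrict_of_isBlowUp 𝓘 b hb V (fun x hx => hx)
  have h₂ : b x₂ ∉ 𝓘.support := h ▸ h₁
  let a₁ : ((b ⁻¹ᵁ V : X'.Opens) : Scheme.{u}) := ⟨x₁, h₁⟩
  let a₂ : ((b ⁻¹ᵁ V : X'.Opens) : Scheme.{u}) := ⟨x₂, h₂⟩
  have he : (b ∣_ V) a₁ = (b ∣_ V) a₂ := by
    apply Subtype.ext
    rw [morphismRestrict_base_coe, morphismRestrict_base_coe]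
    exact h
  have hinj : Function.Injective (b ∣_ V) := by
    intro p q hpq
    have := congrArg (inv (b ∣_ V)) hpq
    rw [← Scheme.Hom.comp_apply, ← Scheme.Hom.comp_apply, IsIso.hom_inv_id] at this
    exact this
  exact congrArg Subtype.val (hinj he)

include hb in
/-- Over the complement of the centre the blow-up is surjective, with preimages compatible with
specialization. -/
theorem exists_map_eq_of_notMem_support (x : X) (hx : x ∉ 𝓘.support) : ∃ x' : X', b x' = x := by
  set V : X.Opens := 𝓘.support.compl with hV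
  have hiso : IsIso (b ∣_ V) := isIso_morphismRestrict_of_isBlowUp 𝓘 b hb V (fun x hx => hx)
  let xV : (V : Scheme.{u}) := ⟨x, hx⟩
  refine ⟨((inv (b ∣_ V)) xV).1, ?_⟩
  have h3 : (b ∣_ V) ((inv (b ∣_ V)) xV) = xV := by
    rw [← Scheme.Hom.comp_apply, IsIso.inv_hom_id]
    rfl
  have h4 := morphismRestrict_base_coe b V ((inv (b ∣_ V)) xV)
  rw [h3] at h4
  exact h4.symm

include hb in
theorem bijOn_generic_of_isBlowUp :
    Set.BijOn (fun x' => b x') {x' : X' | ∀ y : X', y ⤳ x' → y = x'}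
      {x : X | (∀ y : X, y ⤳ x → y = x) ∧ x ∉ 𝓘.support} := by
  refine ⟨?_, ?_, ?_⟩
  · intro x' hx'
    have hns := notMem_support_of_generic 𝓘 b hb x' hx'
    refine ⟨?_, hns⟩
    intro y hy
    obtain ⟨y', hy', rfl⟩ := exists_specializes_of_specializes_map 𝓘 b hb x' hns y hy
    rw [hx' y' hy']
  · intro x₁ hx₁ x₂ hx₂ h
    exact eq_of_map_eq_of_notMem_support 𝓘 b hb x₁ x₂ (notMem_support_of_generic 𝓘 b hb x₁ hx₁) h
  · rintro x ⟨hx, hns⟩
    obtain ⟨x', rfl⟩ := exists_map_eq_of_notMem_support 𝓘 b hb x hns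
    refine ⟨x', ?_, rfl⟩
    intro y' hy'
    have h1 : b y' ⤳ b x' := hy'.map b.continuous
    have h2 := hx _ h1
    exact (eq_of_map_eq_of_notMem_support 𝓘 b hb y' x' (h2 ▸ hns) h2)

end Iso

end Groth.Agent.Lib.BlowUp
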