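import Groth.Agent.Lib.BlowUp.Helper18_Basic
import Groth.Agent.Lib.QCoh.Helper18_Generic

/-!
# Blow-ups: regular sections and effective Cartier divisors pull back (helper18)

Namespace `Groth.Agent.Lib.BlowUp`.

* `app_mem_regSub_of_forall` : criterion for `f^♯ s` to be a regular section.
* `app_mem_regSub_of_isSchematicallyDense` : if `f : X' ⟶ X` induces isomorphisms on the stalks at
  all points of a schematically dense open of `X'`, regular sections pull back to regular sections.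
* `isIso_stalkMap_of_isBlowUp`, `app_mem_regSub_of_isBlowUp`.
* `isEffCartierIdeal_comap_of_isBlowUp` : effective Cartier divisors pull back along a blow-up.
-/

universe u

open CategoryTheory CategoryTheory.Limits AlgebraicGeometry Opposite TopologicalSpace
open Groth.Agent.Lib.QCoh

namespace Groth.Agent.Lib.BlowUp

variable {X X' : Scheme.{u}}

theorem app_mem_regSub_of_forall (f : X' ⟶ X) (U : X.Opens) (s : Γ(X, U))
    (H : ∀ (W : X'.Opens) (hW : W ≤ f ⁻¹ᵁ U) (b : Γ(X', W)),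
      b * X'.presheaf.map (homOfLE hW).op (f.app U s) = 0 → b = 0) :
    f.app U s ∈ Mero.regSub X' (f ⁻¹ᵁ U) := by
  rintro ⟨x, hx⟩
  change X'.presheaf.germ (f ⁻¹ᵁ U) x hx (f.app U s) ∈ nonZeroDivisors _
  rw [mem_nonZeroDivisors_iff_right]
  intro t ht
  obtain ⟨W₁, hxW₁, b₁, rfl⟩ := X'.presheaf.exists_germ_eq t
  have hxW₂ : x ∈ W₁ ⊓ f ⁻¹ᵁ U := ⟨hxW₁, hx⟩
  set c : Γ(X', W₁ ⊓ f ⁻¹ᵁ U) := X'.presheaf.map (homOfLE inf_le_left).op b₁ *
    X'.presheaf.map (homOfLE inf_le_right).op (f.app U s) with hc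
  have hc0 : X'.presheaf.germ (W₁ ⊓ f ⁻¹ᵁ U) x hxW₂ c =
      X'.presheaf.germ (W₁ ⊓ f ⁻¹ᵁ U) x hxW₂ 0 := by
    rw [hc, map_mul, map_zero, TopCat.Presheaf.germ_res_apply, TopCat.Presheaf.germ_res_apply]
    exact ht
  obtain ⟨W, hxW, i₁, i₂, hres⟩ := TopCat.Presheaf.germ_eq _ x hxW₂ hxW₂ _ _ hc0
  rw [map_zero] at hres
  have hWW₂ : W ≤ W₁ ⊓ f ⁻¹ᵁ U := i₁.le
  have hWW₁ : W ≤ W₁ := hWW₂.trans inf_le_left
  have hWU : W ≤ f ⁻¹ᵁ U := hWW₂.trans inf_le_right
  set b : Γ(X', W) := X'.presheaf.map (homOfLE hWW₁).op b₁ with hb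
  have hba : b * X'.presheaf.map (homOfLE hWU).op (f.app U s) = 0 := by
    have h1 : X'.presheaf.map (homOfLE hWW₂).op c = 0 := hres
    rw [hc, map_mul, res_res, res_res] at h1
    rw [hb, ← h1]
  have hgb : X'.presheaf.germ W₁ x hxW₁ b₁ = X'.presheaf.germ W x hxW b := by
    rw [hb, TopCat.Presheaf.germ_res_apply]
  rw [hgb, H W hWU b hba, map_zero]

/-- If `f` induces stalk maps preserving nonzerodivisors at all points of a schematically dense open
of the source, regular sections pull back to regular sections. -/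
theorem app_mem_regSub_of_isSchematicallyDense (f : X' ⟶ X) (U₀ : X'.Opens)
    (hU₀ : CInt.IsSchematicallyDense U₀)
    (hst : ∀ y : X', y ∈ U₀ → ∀ a ∈ nonZeroDivisors (X.presheaf.stalk (f y)),
      f.stalkMap y a ∈ nonZeroDivisors (X'.presheaf.stalk y))
    (U : X.Opens) (s : Γ(X, U)) (hs : s ∈ Mero.regSub X U) :
    f.app U s ∈ Mero.regSub X' (f ⁻¹ᵁ U) := by
  apply app_mem_regSub_of_forall
  intro W hW b hba
  apply hU₀ W
  rw [map_zero]
  apply fn_eq_zero_of_germ_eq_zero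
  intro y hy
  rw [TopCat.Presheaf.germ_res_apply]
  have hyU : f y ∈ U := hW hy.1
  have h1 : X'.presheaf.germ W y hy.1 (X'.presheaf.map (homOfLE hW).op (f.app U s)) =
      f.stalkMap y (X.presheaf.germ U (f y) hyU s) := by
    rw [Scheme.Hom.germ_stalkMap_apply, TopCat.Presheaf.germ_res_apply]
  have h2 := hst y hy.2 _ (hs ⟨f y, hyU⟩)
  rw [← h1] at h2
  have h3 : X'.presheaf.germ W y hy.1 b *
      X'.presheaf.germ W y hy.1 (X'.presheaf.map (homOfLE hW).op (f.app U s)) = 0 := by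
    rw [← map_mul, hba, map_zero]
  exact (mem_nonZeroDivisors_iff_right.1 h2) _ h3

/-- On an affine open, a nonzerodivisor is a regular section (germwise nonzerodivisor). -/
theorem mem_regSub_of_mem_nonZeroDivisors {V : X.Opens} (hV : IsAffineOpen V) (d : Γ(X, V))
    (hd : d ∈ nonZeroDivisors Γ(X, V)) : d ∈ Mero.regSub X V := by
  rintro ⟨z, hzV⟩
  have := hV.isLocalization_stalk ⟨z, hzV⟩
  let _ : Algebra Γ(X, V) (X.presheaf.stalk z) :=
    TopCat.Presheaf.algebra_section_stalk X.presheaf ⟨z, hzV⟩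
  have h2 : algebraMap Γ(X, V) (X.presheaf.stalk z) d ∈ nonZeroDivisors (X.presheaf.stalk z) :=
    IsLocalization.map_nonZeroDivisors_le (hV.primeIdealOf ⟨z, hzV⟩).asIdeal.primeCompl
      (X.presheaf.stalk z) (Submonoid.mem_map_of_mem _ hd)
  exact h2

/-- A regular section over any open is a nonzerodivisor of the ring of sections. -/
theorem mem_nonZeroDivisors_of_mem_regSub {W : X.Opens} (t : Γ(X, W)) (ht : t ∈ Mero.regSub X W) :
    t ∈ nonZeroDivisors Γ(X, W) := by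
  rw [mem_nonZeroDivisors_iff_right]
  intro z hz
  apply fn_eq_zero_of_germ_eq_zero
  intro y hy
  have h1 : X.presheaf.germ W y hy z * X.presheaf.germ W y hy t = 0 := by
    rw [← map_mul, hz, map_zero]
  exact (mem_nonZeroDivisors_iff_right.1 (ht ⟨y, hy⟩)) _ h1

theorem isIso_stalkMap_of_isBlowUp (𝓘 : X.IdealSheafData) (b : X' ⟶ X)
    (hb : BlowUp.IsBlowUp b 𝓘) (y : X') (hy : b y ∉ 𝓘.support) : IsIso (b.stalkMap y) := by
  set U : X.Opens := 𝓘.support.compl with hU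
  have hiso : IsIso (b ∣_ U) := isIso_morphismRestrict_of_isBlowUp 𝓘 b hb U (fun x hx => hx)
  have hyU : y ∈ b ⁻¹ᵁ U := hy
  have hoi : IsOpenImmersion (b ∣_ U) := inferInstance
  let y' : ((b ⁻¹ᵁ U : X'.Opens) : Scheme.{u}) := ⟨y, hyU⟩
  have h1 : IsIso ((b ∣_ U).stalkMap y') := inferInstance
  exact ((MorphismProperty.isomorphisms CommRingCat).arrow_mk_iso_iff
    (morphismRestrictStalkMap b U y')).1 h1

theorem app_mem_regSub_of_isBlowUp (𝓘 : X.IdealSheafData) (b : X' ⟶ X)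
    (hb : BlowUp.IsBlowUp b 𝓘) (U : X.Opens) (s : Γ(X, U)) (hs : s ∈ Mero.regSub X U) :
    b.app U s ∈ Mero.regSub X' (b ⁻¹ᵁ U) := by
  set U₀ : X'.Opens := b ⁻¹ᵁ 𝓘.support.compl with hU₀
  have hdense : CInt.IsSchematicallyDense U₀ := by
    apply isSchematicallyDense_of_isEffCartierIdeal (𝓘.comap b) hb.1
    intro x hx
    rw [Scheme.IdealSheafData.support_comap] at hx
    exact hx
  apply app_mem_regSub_of_isSchematicallyDense b U₀ hdense _ U s hs
  intro y hy a ha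
  have hiso : IsIso (b.stalkMap y) := isIso_stalkMap_of_isBlowUp 𝓘 b hb y hy
  have hbij := ConcreteCategory.bijective_of_isIso (b.stalkMap y)
  rw [mem_nonZeroDivisors_iff_right]
  intro z hz
  obtain ⟨w, rfl⟩ := hbij.2 z
  have h1 : (b.stalkMap y) (w * a) = (b.stalkMap y) 0 := by
    rw [map_mul, map_zero]
    exact hz
  have h2 := hbij.1 h1
  rw [(mem_nonZeroDivisors_iff_right.1 ha) w h2, map_zero]

/-- Effective Cartier divisors pull back to effective Cartier divisors along a blow-up. -/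
theorem isEffCartierIdeal_comap_of_isBlowUp (𝓘 : X.IdealSheafData) (b : X' ⟶ X)
    (hb : BlowUp.IsBlowUp b 𝓘) (𝓓 : X.IdealSheafData) (hD : BlowUp.IsEffCartierIdeal 𝓓) :
    BlowUp.IsEffCartierIdeal (𝓓.comap b) := by
  intro x
  obtain ⟨V, hxV, d, hd, hI⟩ := hD (b x)
  have hxV' : x ∈ b ⁻¹ᵁ V.1 := hxV
  obtain ⟨W, hW0, hxW, hWV⟩ := Opens.isBasis_iff_nbhd.1 (X'.isBasis_affineOpens) hxV'
  have hW : IsAffineOpen W := hW0
  refine ⟨⟨W, hW⟩, hxW, (b.appLE V.1 W hWV).hom d, ?_, ?_⟩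
  · have h1 : b.app V.1 d ∈ Mero.regSub X' (b ⁻¹ᵁ V.1) :=
      app_mem_regSub_of_isBlowUp 𝓘 b hb V.1 d (mem_regSub_of_mem_nonZeroDivisors V.2 d hd)
    have h2 : (b.appLE V.1 W hWV).hom d ∈ Mero.regSub X' W := by
      have := Mero.regSub_res (homOfLE hWV) h1
      exact this
    exact mem_nonZeroDivisors_of_mem_regSub _ h2
  · rw [Groth.Agent.Lib.Helper20.ideal_comap b 𝓓 ⟨W, hW⟩ V hWV, hI, Ideal.map_span,
      Set.image_singleton]

end Groth.Agent.Lib.BlowUp
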