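import Groth.Agent.Lib.BlowUp.Helper18_EffCartier
import Mathlib.AlgebraicGeometry.IdealSheaf.Subscheme

/-!
# Strict transforms avoid the charts of their own equations (helper18)

Namespace `Groth.Agent.Lib.BlowUp`.
-/

universe u

open CategoryTheory CategoryTheory.Limits AlgebraicGeometry Opposite TopologicalSpace

namespace Groth.Agent.Lib.BlowUp

theorem appLE_congr_hom {X Y : Scheme.{u}} {g₁ g₂ : X ⟶ Y} (h : g₁ = g₂) (V : Y.Opens)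
    (W : X.Opens) (e₁ : W ≤ g₁ ⁻¹ᵁ V) (e₂ : W ≤ g₂ ⁻¹ᵁ V) :
    g₁.appLE V W e₁ = g₂.appLE V W e₂ := by
  subst h; rfl

/-- Core lemma: let `k : Yt ⟶ X'` lie over `𝓘.subscheme ⟶ X`, and suppose the inverse image of `𝓚`
on `Yt` is an effective Cartier ideal.  Then on an affine open `V'` of `X'` meeting the image of
`k`, the inverse image ideal of `𝓚` is not generated by pullbacks of sections of `𝓘`. -/
theorem not_ideal_comap_le_map_of_meets {X X' Yt : Scheme.{u}} (𝓘 𝓚 : X.IdealSheafData)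
    (b : X' ⟶ X) (b' : Yt ⟶ 𝓘.subscheme)
    (hE : BlowUp.IsEffCartierIdeal ((𝓚.comap 𝓘.subschemeι).comap b'))
    (k : Yt ⟶ X') (hk : k ≫ b = b' ≫ 𝓘.subschemeι)
    (V : X.affineOpens) (V' : X'.affineOpens) (hV' : V'.1 ≤ b ⁻¹ᵁ V.1)
    (hmeet : (Set.range (fun y => k y) ∩ (V'.1 : Set X')).Nonempty)
    (hle : (𝓚.comap b).ideal V' ≤ (𝓘.ideal V).map (b.appLE V.1 V'.1 hV').hom) : False := by
  obtain ⟨_, ⟨y, rfl⟩, hyV'⟩ := hmeet
  obtain ⟨W, hyW, hWle, d, hd, hId⟩ :=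
    exists_le_of_isEffCartierIdeal hE y (k ⁻¹ᵁ V'.1) hyV'
  have e1 : (𝓚.comap 𝓘.subschemeι).comap b' = (𝓚.comap b).comap k := by
    rw [← Scheme.IdealSheafData.comap_comp, ← Scheme.IdealSheafData.comap_comp, hk]
  rw [e1, Groth.Agent.Lib.Helper20.ideal_comap k (𝓚.comap b) W V' hWle] at hId
  have hWV : W.1 ≤ (k ≫ b) ⁻¹ᵁ V.1 := fun z hz => hV' (hWle hz)
  have hWV2 : W.1 ≤ (b' ≫ 𝓘.subschemeι) ⁻¹ᵁ V.1 := hk ▸ hWV
  have hz : ∀ s ∈ 𝓘.ideal V,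
      (k.appLE V'.1 W.1 hWle).hom ((b.appLE V.1 V'.1 hV').hom s) = 0 := by
    intro s hs
    have h1 : b.appLE V.1 V'.1 hV' ≫ k.appLE V'.1 W.1 hWle = (k ≫ b).appLE V.1 W.1 hWV :=
      Scheme.Hom.appLE_comp_appLE _ _ _ _ _ _ _
    have h2 : (k ≫ b).appLE V.1 W.1 hWV = (b' ≫ 𝓘.subschemeι).appLE V.1 W.1 hWV2 :=
      appLE_congr_hom hk _ _ _ _
    have h3 : (b' ≫ 𝓘.subschemeι).appLE V.1 W.1 hWV2 =
        𝓘.subschemeι.app V.1 ≫ b'.appLE (𝓘.subschemeι ⁻¹ᵁ V.1) W.1 hWV2 :=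
      Scheme.Hom.comp_appLE _ _ _ _ _
    have h4 : (𝓘.subschemeι.app V.1).hom s = 0 := by
      have : s ∈ RingHom.ker (𝓘.subschemeι.app V.1).hom := by
        rw [𝓘.ker_subschemeι_app V]; exact hs
      exact this
    change (b.appLE V.1 V'.1 hV' ≫ k.appLE V'.1 W.1 hWle).hom s = 0
    rw [h1, h2, h3]
    change (b'.appLE (𝓘.subschemeι ⁻¹ᵁ V.1) W.1 hWV2).hom ((𝓘.subschemeι.app V.1).hom s) = 0
    rw [h4, map_zero]
  have hbot : Ideal.span {d} ≤ (⊥ : Ideal Γ(Yt, W.1)) := by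
    rw [← hId]
    refine (Ideal.map_mono hle).trans ?_
    rw [Ideal.map_map, Ideal.map_le_iff_le_comap]
    intro s hs
    rw [Ideal.mem_comap, Ideal.mem_bot]
    exact hz s hs
  have hd0 : d = 0 := by
    have h5 : d ∈ (⊥ : Ideal Γ(Yt, W.1)) := hbot (Ideal.mem_span_singleton_self d)
    exact h5
  have : Nontrivial Γ(Yt, W.1) := (Yt.presheaf.germ W.1 y hyW).hom.domain_nontrivial
  exact zero_notMem_nonZeroDivisors (hd0 ▸ hd)

/-- Special case of one section. -/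
theorem ideal_comap_ne_span_of_meets {X X' Yt : Scheme.{u}} (𝓘 𝓚 : X.IdealSheafData)
    (b : X' ⟶ X) (b' : Yt ⟶ 𝓘.subscheme)
    (hE : BlowUp.IsEffCartierIdeal ((𝓚.comap 𝓘.subschemeι).comap b'))
    (k : Yt ⟶ X') (hk : k ≫ b = b' ≫ 𝓘.subschemeι)
    (V : X.affineOpens) (s : Γ(X, V.1)) (hs : s ∈ 𝓘.ideal V)
    (V' : X'.affineOpens) (hV' : V'.1 ≤ b ⁻¹ᵁ V.1)
    (hmeet : (Set.range (fun y => k y) ∩ (V'.1 : Set X')).Nonempty) :
    (𝓚.comap b).ideal V' ≠ Ideal.span {(b.appLE V.1 V'.1 hV').hom s} := by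
  intro heq
  refine not_ideal_comap_le_map_of_meets 𝓘 𝓚 b b' hE k hk V V' hV' hmeet ?_
  rw [heq, Ideal.span_singleton_le_iff_mem]
  exact Ideal.mem_map_of_mem _ hs

end Groth.Agent.Lib.BlowUp
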