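import Groth.Agent.Lib.Cohomology.Helper1_SerreVanishing
import Groth.Agent.Lib.Cohomology.Helper1_MV
import Groth.Agent.Lib.Cohomology.Helper1_HUTop
import Groth.Agent.Lib.Cohomology.helper5_SiteH

/-!
# `H^1` of a union of two opens via Mayer–Vietoris (lead)

ns `Groth.Agent.Lib.BlowUp.MVH1`.

* `HU_one_sup_subsingleton` : if `H^1(U, F) = H^1(V, F) = 0` and every section of `F` over `U ⊓ V`
  is a sum of a section over `U` and a section over `V`, then `H^1(U ⊔ V, F) = 0`.
* `subsingleton_HH_one_of_decomp` : the scheme version for quasi-coherent modules and affine `U`, `V`.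
-/

set_option autoImplicit false
universe u

open CategoryTheory CategoryTheory.Limits Opposite TopologicalSpace AlgebraicGeometry

namespace Groth.Agent.Lib.BlowUp.MVH1

open Groth.Agent.Lib.Cohomology.SiteH

section Top

variable {X : TopCat.{u}}

/-- restriction of `H^0` classes corresponds to restriction of sections -/
lemma map_sectionsEquivH0 (F : CohTop.Ab X) {W W' : Opens X} (j : W' ⟶ W)
    (a : F.obj.obj (op W)) :
    (Sheaf.cohomologyPresheaf.{u} F 0).map j.op
        (sectionsEquivH0 (Opens.grothendieckTopology X) F W a) =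
      sectionsEquivH0 (Opens.grothendieckTopology X) F W' (F.obj.map j.op a) := by
  refine (cohomologyPresheaf_map_apply (Opens.grothendieckTopology X) F 0 j.op _).trans ?_
  change (Abelian.Ext.mk₀ _).comp (Abelian.Ext.mk₀ _) _ = Abelian.Ext.mk₀ _
  rw [Abelian.Ext.mk₀_comp_mk₀]
  congr 1
  exact (ofSect_res (Opens.grothendieckTopology X) F j a).symm

/-- **Mayer–Vietoris for `H^1`** -/
theorem HU_one_sup_subsingleton (F : CohTop.Ab X) (U V : Opens X)
    (h₂ : Subsingleton (CohTop.HU F 1 U)) (h₃ : Subsingleton (CohTop.HU F 1 V))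
    (hdec : ∀ m : F.obj.obj (op (U ⊓ V)), ∃ (a : F.obj.obj (op U)) (b : F.obj.obj (op V)),
      m = F.obj.map (homOfLE (inf_le_left : U ⊓ V ≤ U)).op a +
        F.obj.map (homOfLE (inf_le_right : U ⊓ V ≤ V)).op b) :
    Subsingleton (CohTop.HU F 1 (U ⊔ V)) := by
  let S := Opens.mayerVietorisSquare U V
  have hex := S.sequence_exact F 0 1 rfl
  have hex2 := hex.exact 2
  have hz := S.fromBiprod_δ F 0 1 rfl
  refine subsingleton_of_forall_eq 0 fun y => ?_
  -- `y` comes from `δ`
  have hy : (S.toBiprod F 1) y = 0 := by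
    have z₂ : IsZero (F.H' 1 S.X₂) := @AddCommGrpCat.isZero_of_subsingleton _ h₂
    have z₃ : IsZero (F.H' 1 S.X₃) := @AddCommGrpCat.isZero_of_subsingleton _ h₃
    have hzero : S.toBiprod F 1 = 0 := by
      apply biprod.hom_ext
      · exact z₂.eq_of_tgt _ _
      · exact z₃.eq_of_tgt _ _
    rw [hzero]
    rfl
  obtain ⟨x, hx⟩ : ∃ x : CohSite.HU F 0 (U ⊓ V), (S.δ F 0 1 rfl) x = y :=
    (ShortComplex.ab_exact_iff _).1 hex2 y hy
  -- `x` is in the image of `fromBiprod`
  obtain ⟨m, hm⟩ := (sectionsEquivH0 (Opens.grothendieckTopology X) F (U ⊓ V)).surjective x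
  obtain ⟨a, b, hab⟩ := hdec m
  have e1 := map_sectionsEquivH0 F (homOfLE (inf_le_left : U ⊓ V ≤ U)) a
  have e2 := map_sectionsEquivH0 F (homOfLE (inf_le_right : U ⊓ V ≤ V)) (-b)
  have e3 : x = sectionsEquivH0 (Opens.grothendieckTopology X) F (U ⊓ V)
        (F.obj.map (homOfLE (inf_le_left : U ⊓ V ≤ U)).op a) -
      sectionsEquivH0 (Opens.grothendieckTopology X) F (U ⊓ V)
        (F.obj.map (homOfLE (inf_le_right : U ⊓ V ≤ V)).op (-b)) := by
    rw [← hm, hab, map_neg, map_neg, sub_neg_eq_add, map_add]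
  have hx' : x = S.fromBiprod F 0 ((AddCommGrpCat.biprodIsoProd _ _).inv
      ⟨sectionsEquivH0 (Opens.grothendieckTopology X) F U a,
        sectionsEquivH0 (Opens.grothendieckTopology X) F V (-b)⟩) := by
    refine Eq.trans ?_
      (GrothendieckTopology.MayerVietorisSquare.fromBiprod_biprodIsoProd_inv_apply S F _ _).symm
    exact e3.trans (congrArg₂ (· - ·) e1.symm e2.symm)
  rw [← hx, hx']
  exact ConcreteCategory.congr_hom hz _

end Top

/-- **`H^1` of a quasi-coherent module on a union of two affine opens** vanishes if every section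
over the intersection is a sum of restrictions -/
theorem subsingleton_HH_one_of_decomp {X : Scheme.{u}} (U V : X.Opens) (hU : IsAffineOpen U)
    (hV : IsAffineOpen V) (hcov : U ⊔ V = ⊤) (F : X.Modules) [F.IsQuasicoherent]
    (hdec : ∀ m : Γ(F, U ⊓ V), ∃ (a : Γ(F, U)) (b : Γ(F, V)),
      m = F.presheaf.map (homOfLE (inf_le_left : U ⊓ V ≤ U)).op a +
        F.presheaf.map (homOfLE (inf_le_right : U ⊓ V ≤ V)).op b) :
    Subsingleton (Coh.HH X F 1) := by
  have h := HU_one_sup_subsingleton (Coh.toAb F) U V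
    (Groth.Agent.Lib.Cohomology.HU_succ_subsingleton_of_isAffineOpen F U hU 0)
    (Groth.Agent.Lib.Cohomology.HU_succ_subsingleton_of_isAffineOpen F V hV 0) hdec
  rw [hcov] at h
  exact (Groth.Agent.Lib.Cohomology.HUTopEquiv _ (Coh.toAb F) 1).symm.subsingleton

end Groth.Agent.Lib.BlowUp.MVH1
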