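import Groth.Agent.Lib.BlowUp.Basic
import Groth.Agent.Lib.Proj.Helper56_Charts
import Groth.Agent.S8264

/-!
# Ideal sheaves on schemes locally `Spec` of a PID are effective Cartier (lead)

ns `Groth.Agent.Lib.BlowUp.PidCartier`.

* `isEffCartierIdeal_of_pid` : on an irreducible scheme covered by affine opens whose rings are
  principal ideal domains, an ideal sheaf whose support is not everything is effective Cartier.
* `exists_pid_chart_P1` : `P^1_k` is covered by such opens.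
* `isEffCartierIdeal_P1`, `existsUnique_lift_P1` : morphisms from `P^1_k` lift uniquely to blow-ups
  whose centre does not contain the image.
-/

universe u

open CategoryTheory CategoryTheory.Limits AlgebraicGeometry Opposite TopologicalSpace

namespace Groth.Agent.Lib.BlowUp.PidCartier

theorem isEffCartierIdeal_of_pid {P : Scheme.{u}} [IrreducibleSpace P] (𝓚 : P.IdealSheafData)
    (hsupp : (𝓚.support : Set P) ≠ Set.univ)
    (hcov : ∀ x : P, ∃ V : P.affineOpens, x ∈ V.1 ∧ IsDomain Γ(P, V.1) ∧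
      IsPrincipalIdealRing Γ(P, V.1)) :
    BlowUp.IsEffCartierIdeal 𝓚 := by
  intro x
  obtain ⟨V, hxV, hdom, hpid⟩ := hcov x
  refine ⟨V, hxV, ?_⟩
  obtain ⟨g, hg⟩ := (hpid.principal (𝓚.ideal V)).principal
  have hg' : 𝓚.ideal V = Ideal.span {g} := hg
  refine ⟨g, ?_, hg'⟩
  apply mem_nonZeroDivisors_of_ne_zero
  rintro rfl
  apply hsupp
  have h1 := 𝓚.coe_support_inter V
  rw [hg', Scheme.zeroLocus_span, Scheme.zeroLocus_singleton, Scheme.basicOpen_zero] at h1
  have hVsub : (V.1 : Set P) ⊆ (𝓚.support : Set P) := by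
    intro y hy
    have : y ∈ (𝓚.support : Set P) ∩ (V.1 : Set P) := by
      rw [h1]
      exact ⟨fun h => h, hy⟩
    exact this.1
  have hdense : Dense (V.1 : Set P) := V.1.isOpen.dense ⟨x, hxV⟩
  have h2 := (𝓚.support.isClosed.closure_subset_iff).2 hVsub
  rw [hdense.closure_eq] at h2
  exact Set.eq_univ_of_univ_subset h2

section P1

variable (k : Type u) [Field k]

open MvPolynomial in
instance : IrreducibleSpace (CohB1.ProjSpace 1 k) := by
  unfold CohB1.ProjSpace
  refine Groth.Agent.S8264.proj_irreducibleSpace (CohB1.polyGrading 1 k) (fun h => ?_)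
  have h1 : (X 0 : MvPolynomial (Fin 2) k) ∈
      (HomogeneousIdeal.irrelevant (CohB1.polyGrading 1 k)).toIdeal :=
    HomogeneousIdeal.mem_irrelevant_of_mem _ one_pos (Groth.Agent.Lib.Proj.X_mem 1 k 0)
  rw [h] at h1
  exact MvPolynomial.X_ne_zero (0 : Fin 2) ((Submodule.mem_bot _).1 h1)

open MvPolynomial in
/-- the coordinate ring of a standard chart of `P^1_k` is `k[X]` -/
noncomputable def chartEquiv (i : Fin 2) :
    Γ(CohB1.ProjSpace 1 k, Groth.Agent.Lib.Proj.stdOpen 1 k i) ≃+* Polynomial k :=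
  ((Proj.basicOpenIsoAway (CohB1.polyGrading 1 k) (X i) (Groth.Agent.Lib.Proj.X_mem 1 k i)
      one_pos).commRingCatIsoToRingEquiv.symm.trans
    (Groth.Agent.Lib.Proj.awayXEquivFin 1 k i)).trans
    (MvPolynomial.uniqueAlgEquiv k (Fin 1)).toRingEquiv

theorem exists_pid_chart_P1 (x : CohB1.ProjSpace 1 k) :
    ∃ V : (CohB1.ProjSpace 1 k).affineOpens, x ∈ V.1 ∧ IsDomain Γ(CohB1.ProjSpace 1 k, V.1) ∧
      IsPrincipalIdealRing Γ(CohB1.ProjSpace 1 k, V.1) := by
  have hx : x ∈ (⨆ i : Fin 2, Groth.Agent.Lib.Proj.stdOpen 1 k i) := by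
    rw [Groth.Agent.Lib.Proj.iSup_stdOpen]; trivial
  obtain ⟨i, hxi⟩ := Opens.mem_iSup.1 hx
  refine ⟨⟨_, Groth.Agent.Lib.Proj.isAffineOpen_stdOpen 1 k i⟩, hxi, ?_, ?_⟩
  · exact (chartEquiv k i).toMulEquiv.isDomain (Polynomial k)
  · exact IsPrincipalIdealRing.of_surjective (chartEquiv k i).symm.toRingHom
      (chartEquiv k i).symm.surjective

/-- an ideal sheaf on `P^1_k` with proper support is effective Cartier -/
theorem isEffCartierIdeal_P1 (𝓚 : (CohB1.ProjSpace 1 k).IdealSheafData)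
    (hsupp : (𝓚.support : Set (CohB1.ProjSpace 1 k)) ≠ Set.univ) : BlowUp.IsEffCartierIdeal 𝓚 :=
  isEffCartierIdeal_of_pid 𝓚 hsupp (exists_pid_chart_P1 k)

/-- morphisms from `P^1_k` whose image is not contained in the centre lift uniquely to the
blow-up -/
theorem existsUnique_lift_P1 {X Z B : Scheme.{u}} (iZ : Z ⟶ X) [IsClosedImmersion iZ]
    (σ : B ⟶ X) (hσ : BlowUp.IsBlowUp σ iZ.ker) (f : CohB1.ProjSpace 1 k ⟶ X)
    (hfZ : ¬ Set.range f ⊆ Set.range iZ) :
    ∃! g : CohB1.ProjSpace 1 k ⟶ B, g ≫ σ = f := by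
  refine hσ.2 _ f (isEffCartierIdeal_P1 k _ (fun h => hfZ ?_))
  rw [Scheme.IdealSheafData.support_comap] at h
  rintro _ ⟨y, rfl⟩
  have hy : y ∈ (Set.univ : Set (CohB1.ProjSpace 1 k)) := trivial
  rw [← h] at hy
  have hy' : f y ∈ (iZ.ker.support : Set X) := hy
  rwa [Scheme.Hom.support_ker, iZ.isClosedEmbedding.isClosed_range.closure_eq] at hy'

end P1

end Groth.Agent.Lib.BlowUp.PidCartier
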