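import Groth.Agent.Lib.BlowUp.ReesGraded
import Groth.Agent.Lib.Proj.AwayLaurent

/-!
# Algebra of the Rees algebra and its degree-zero localizations (lead)

ns `Groth.Agent.Lib.BlowUp.Rees`.

* `T I a ha = a X`, `adjoin_eq_top` (generated in degree one), `eq_sum_mon`.
* `exists_lift` : `ψ : A → B` with `ψ(I)B = tB`, `t` a nonzerodivisor, gives
  `f : reesAlgebra I → B` with `f (c X^n) * t^n = ψ c`.
* `θ I a ha : A → (Rees_I)_(aX)`; `mk1_mul_θ_pow` (`(c X^n / (aX)^n) * a^n = c`),
  `θ_mem_nonZeroDivisors`, `map_θ_eq_span`, `away_ringHom_ext`, `isLocalizationElem_mul`.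
-/

universe u

open Polynomial HomogeneousLocalization

namespace Groth.Agent.Lib.BlowUp.Rees

open Groth.Agent.Lib.Proj.AwayLaurent

lemma mem_nonZeroDivisors_of_forall_right {R : Type*} [CommRing R] (x : R)
    (h : ∀ z : R, z * x = 0 → z = 0) : x ∈ nonZeroDivisors R :=
  mem_nonZeroDivisors_iff_right.2 h

variable {A : Type u} [CommRing A] (I : Ideal A)

/-- the degree-one element `a X`, `a ∈ I` -/
noncomputable def T (a : A) (ha : a ∈ I) : reesAlgebra I := mon I 1 a (by rwa [pow_one])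

lemma T_mem (a : A) (ha : a ∈ I) : T I a ha ∈ deg I 1 := mon_mem I 1 a _

lemma mon_eq_zero_iff (n : ℕ) (c : A) (hc : c ∈ I ^ n) : mon I n c hc = 0 ↔ c = 0 := by
  rw [Subtype.ext_iff]
  show monomial n c = ((0 : reesAlgebra I) : A[X]) ↔ _
  rw [Subalgebra.coe_zero, monomial_eq_zero_iff]

lemma T_pow (a : A) (ha : a ∈ I) (m : ℕ) :
    T I a ha ^ m = mon I m (a ^ m) (Ideal.pow_mem_pow ha m) := by
  unfold T
  rw [mon_pow]
  exact mon_congr I (one_mul m) rfl _

lemma mon_mem_adjoin (n : ℕ) : ∀ (c : A) (hc : c ∈ I ^ n),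
    mon I n c hc ∈ Algebra.adjoin (deg I 0) (Set.range fun a : I => T I a.1 a.2) := by
  induction n with
  | zero =>
    intro c hc
    exact Subalgebra.algebraMap_mem _ (⟨mon I 0 c hc, mon_mem I 0 c hc⟩ : deg I 0)
  | succ n ih =>
    intro c hc
    have hc' : c ∈ I • I ^ n := by rwa [pow_succ', ← smul_eq_mul] at hc
    have key : ∃ hc'' : c ∈ I ^ (n + 1), mon I (n + 1) c hc'' ∈
        Algebra.adjoin (deg I 0) (Set.range fun a : I => T I a.1 a.2) := by
      refine Submodule.smul_induction_on hc' ?_ ?_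
      · intro r hr s hs
        have hrs : r • s ∈ I ^ (n + 1) := by
          rw [pow_succ', smul_eq_mul]; exact Ideal.mul_mem_mul hr hs
        refine ⟨hrs, ?_⟩
        have e : mon I (n + 1) (r • s) hrs = T I r hr * mon I n s hs := by
          unfold T
          rw [mon_mul_mon]
          exact mon_congr I (add_comm n 1) rfl _
        rw [e]
        exact Subalgebra.mul_mem _ (Algebra.subset_adjoin ⟨⟨r, hr⟩, rfl⟩) (ih s hs)
      · rintro x y ⟨hx, hx'⟩ ⟨hy, hy'⟩
        refine ⟨Ideal.add_mem _ hx hy, ?_⟩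
        rw [mon_add I _ x y hx hy]
        exact Subalgebra.add_mem _ hx' hy'
    exact key.2

lemma eq_sum_mon (p : reesAlgebra I) :
    p = ∑ i ∈ (p : A[X]).support.attach, mon I i.1 ((p : A[X]).coeff i.1) (p.2 i.1) := by
  refine Subtype.ext ?_
  rw [AddSubmonoidClass.coe_finsetSum]
  simp only [coe_mon]
  rw [Finset.sum_attach (p : A[X]).support (fun i => monomial i ((p : A[X]).coeff i))]
  exact as_sum_support (p : A[X])

/-- the Rees algebra is generated in degree one over degree zero -/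
theorem adjoin_eq_top :
    Algebra.adjoin (deg I 0) (Set.range fun a : I => T I a.1 a.2) = ⊤ := by
  rw [eq_top_iff]
  intro p _
  rw [eq_sum_mon I p]
  exact Subalgebra.sum_mem _ fun i _ => mon_mem_adjoin I _ _ _

section Lift

variable {B : Type*} [CommRing B] (ψ : A →+* B) (t : B) (ht : t ∈ nonZeroDivisors B)
  (hI : I.map ψ = Ideal.span {t})

include hI in
lemma exists_mul_pow_eq (n : ℕ) (c : A) (hc : c ∈ I ^ n) : ∃ b : B, b * t ^ n = ψ c := by
  have h1 : ψ c ∈ (I ^ n).map ψ := Ideal.mem_map_of_mem _ hc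
  rw [Ideal.map_pow, hI, Ideal.span_singleton_pow] at h1
  exact Ideal.mem_span_singleton'.1 h1

include ht hI in
/-- the ring map `c X^n ↦ ψ c / t^n` -/
theorem exists_lift :
    ∃ f : reesAlgebra I →+* B, ∀ (n : ℕ) (c : A) (hc : c ∈ I ^ n),
      f (mon I n c hc) * t ^ n = ψ c := by
  classical
  let L := Localization.Away t
  let ι : B →+* L := algebraMap B L
  have hinj : Function.Injective ι :=
    IsLocalization.injective L (M := Submonoid.powers t) ((Submonoid.powers_le).2 ht)
  let ev : A[X] →+* L := Polynomial.eval₂RingHom (ι.comp ψ) (IsLocalization.Away.invSelf t)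
  let g : reesAlgebra I →+* L := ev.comp (reesAlgebra I).val.toRingHom
  have hinv : ι t * IsLocalization.Away.invSelf t = 1 := IsLocalization.Away.mul_invSelf t
  have hg : ∀ (n : ℕ) (c : A) (hc : c ∈ I ^ n) (b : B), b * t ^ n = ψ c →
      g (mon I n c hc) = ι b := by
    intro n c hc b hb
    show Polynomial.eval₂ (ι.comp ψ) (IsLocalization.Away.invSelf t) (monomial n c) = ι b
    rw [eval₂_monomial, RingHom.comp_apply, ← hb, map_mul, map_pow, mul_assoc, ← mul_pow, hinv,
      one_pow, mul_one]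
  have hrange : ∀ p : reesAlgebra I, g p ∈ ι.range := by
    intro p
    rw [eq_sum_mon I p, map_sum]
    refine Subring.sum_mem _ fun i _ => ?_
    obtain ⟨b, hb⟩ := exists_mul_pow_eq I ψ t hI i.1 _ (p.2 i.1)
    exact ⟨b, (hg i.1 _ (p.2 i.1) b hb).symm⟩
  let e : B ≃+* ι.range := RingEquiv.ofBijective ι.rangeRestrict
    ⟨fun x y h => hinj (congrArg Subtype.val h), ι.rangeRestrict_surjective⟩
  let f : reesAlgebra I →+* B := (e.symm : ι.range →+* B).comp (g.codRestrict ι.range hrange)
  have hf : ∀ p, ι (f p) = g p := by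
    intro p
    have h1 : e (f p) = g.codRestrict ι.range hrange p := e.apply_symm_apply _
    exact congrArg Subtype.val h1
  refine ⟨f, fun n c hc => hinj ?_⟩
  obtain ⟨b, hb⟩ := exists_mul_pow_eq I ψ t hI n c hc
  rw [map_mul, hf, hg n c hc b hb, ← map_mul, hb]

end Lift

section Away

variable (a : A) (ha : a ∈ I)

/-- the structure map `A → (Rees_I)_(aX)` -/
noncomputable def θ : A →+* Away (deg I) (T I a ha) :=
  (fromZeroRingHom (deg I) (Submonoid.powers (T I a ha))).comp (algebraMap A (deg I 0))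

lemma val_θ (c : A) :
    (θ I a ha c).val = algebraMap (reesAlgebra I) (Localization.Away (T I a ha))
      (algebraMap A (reesAlgebra I) c) := by
  unfold θ
  rw [RingHom.comp_apply]
  show Localization.mk _ 1 = _
  rw [Localization.mk_one_eq_algebraMap]
  rfl

/-- `c X^n / (a X)^n` -/
noncomputable def frac (n : ℕ) (c : A) (hc : c ∈ I ^ n) : Away (deg I) (T I a ha) :=
  mk1 (deg I) (T_mem I a ha) n (mon I n c hc) (mon_mem I n c hc)

lemma val_frac_mul (n : ℕ) (c : A) (hc : c ∈ I ^ n) :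
    (frac I a ha n c hc).val *
      algebraMap (reesAlgebra I) (Localization.Away (T I a ha)) (T I a ha ^ n) =
      algebraMap (reesAlgebra I) (Localization.Away (T I a ha)) (mon I n c hc) := by
  unfold frac
  rw [val_mk1, Localization.mk_eq_mk']
  exact IsLocalization.mk'_spec _ (mon I n c hc)
    (⟨T I a ha ^ n, ⟨n, rfl⟩⟩ : Submonoid.powers (T I a ha))

lemma exists_eq_frac (z : Away (deg I) (T I a ha)) :
    ∃ (n : ℕ) (c : A) (hc : c ∈ I ^ n), z = frac I a ha n c hc := by
  obtain ⟨n, x, hx, rfl⟩ := Away.mk_surjective (deg I) (T_mem I a ha) z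
  have hx' : x ∈ deg I n := by simpa using hx
  obtain ⟨c, hc, rfl⟩ := exists_eq_mon I hx'
  exact ⟨n, c, hc, rfl⟩

lemma isUnit_algebraMap_T_pow (n : ℕ) :
    IsUnit (algebraMap (reesAlgebra I) (Localization.Away (T I a ha)) (T I a ha ^ n)) := by
  rw [map_pow]
  exact (IsLocalization.Away.algebraMap_isUnit (T I a ha)).pow n

/-- `(c X^n / (a X)^n) * a^n = c` -/
theorem frac_mul_θ_pow (n : ℕ) (c : A) (hc : c ∈ I ^ n) :
    frac I a ha n c hc * θ I a ha a ^ n = θ I a ha c := by
  apply HomogeneousLocalization.val_injective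
  rw [HomogeneousLocalization.val_mul, HomogeneousLocalization.val_pow, val_θ, val_θ]
  apply (isUnit_algebraMap_T_pow I a ha n).mul_left_injective
  show (frac I a ha n c hc).val * _ ^ n * _ = _ * _
  rw [mul_right_comm, val_frac_mul, ← map_pow, ← map_mul, ← map_mul]
  congr 1
  rw [← mon_zero_eq I a, ← mon_zero_eq I c, T_pow, mon_pow, mon_mul_mon, mon_mul_mon]
  refine (mon_congr I ?_ ?_ _)
  · simp
  · ring

lemma frac_one_mul_θ (c : A) (hc : c ∈ I) :
    frac I a ha 1 c (by rwa [pow_one]) * θ I a ha a = θ I a ha c := by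
  have h := frac_mul_θ_pow I a ha 1 c (by rwa [pow_one])
  rw [pow_one (θ I a ha a)] at h
  exact h

/-- `a` is a nonzerodivisor of `(Rees_I)_(aX)` -/
theorem θ_mem_nonZeroDivisors : θ I a ha a ∈ nonZeroDivisors (Away (deg I) (T I a ha)) := by
  refine mem_nonZeroDivisors_of_forall_right _ ?_
  intro z hz
  obtain ⟨n, c, hc, rfl⟩ := exists_eq_frac I a ha z
  -- pass to the localization
  have h1 : (frac I a ha n c hc).val *
      algebraMap (reesAlgebra I) (Localization.Away (T I a ha)) (algebraMap A _ a) = 0 := by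
    rw [← val_θ, ← HomogeneousLocalization.val_mul, hz, HomogeneousLocalization.val_zero]
  have h2 : algebraMap (reesAlgebra I) (Localization.Away (T I a ha))
      (mon I n c hc * algebraMap A _ a) = 0 := by
    rw [map_mul, ← val_frac_mul, mul_right_comm, h1, zero_mul]
  obtain ⟨⟨_, m, rfl⟩, hm⟩ := (IsLocalization.map_eq_zero_iff (Submonoid.powers (T I a ha))
    (Localization.Away (T I a ha)) _).1 h2
  have hm' : T I a ha ^ m * (mon I n c hc * algebraMap A _ a) = 0 := hm
  rw [← mon_zero_eq I a, T_pow, mon_mul_mon, mon_mul_mon, mon_eq_zero_iff] at hm'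
  -- so `(aX)^(m+1) * c X^n = 0`
  have h3 : T I a ha ^ (m + 1) * mon I n c hc = 0 := by
    rw [T_pow, mon_mul_mon, mon_eq_zero_iff]
    rw [pow_succ]
    linear_combination hm'
  apply HomogeneousLocalization.val_injective
  rw [HomogeneousLocalization.val_zero]
  have h4 : algebraMap (reesAlgebra I) (Localization.Away (T I a ha)) (mon I n c hc) = 0 :=
    (IsLocalization.map_eq_zero_iff (Submonoid.powers (T I a ha))
      (Localization.Away (T I a ha)) _).2 ⟨⟨_, m + 1, rfl⟩, h3⟩
  have h5 := val_frac_mul I a ha n c hc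
  rw [h4] at h5
  exact (isUnit_algebraMap_T_pow I a ha n).mul_left_eq_zero.1 h5

/-- `I · (Rees_I)_(aX) = (a)` -/
theorem map_θ_eq_span : I.map (θ I a ha) = Ideal.span {θ I a ha a} := by
  apply le_antisymm
  · rw [Ideal.map_le_iff_le_comap]
    intro c hc
    exact Ideal.mem_span_singleton'.2 ⟨_, frac_one_mul_θ I a ha c hc⟩
  · rw [Ideal.span_le, Set.singleton_subset_iff]
    exact Ideal.mem_map_of_mem _ ha

/-- ring maps out of `(Rees_I)_(aX)` sending `a` to a nonzerodivisor are determined on `A` -/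
theorem away_ringHom_ext {B : Type*} [CommRing B] (φ₁ φ₂ : Away (deg I) (T I a ha) →+* B)
    (h : ∀ c : A, φ₁ (θ I a ha c) = φ₂ (θ I a ha c))
    (hnz : φ₁ (θ I a ha a) ∈ nonZeroDivisors B) : φ₁ = φ₂ := by
  ext z
  obtain ⟨n, c, hc, rfl⟩ := exists_eq_frac I a ha z
  have h1 := congrArg φ₁ (frac_mul_θ_pow I a ha n c hc)
  have h2 := congrArg φ₂ (frac_mul_θ_pow I a ha n c hc)
  have e1 : φ₁ (θ I a ha a ^ n) = φ₁ (θ I a ha a) ^ n := map_pow φ₁ _ n
  have e2 : φ₂ (θ I a ha a ^ n) = φ₂ (θ I a ha a) ^ n := map_pow φ₂ _ n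
  rw [map_mul, e1] at h1
  rw [map_mul, e2] at h2
  rw [← h a, ← h c, ← h1] at h2
  exact (mul_cancel_right_mem_nonZeroDivisors (pow_mem hnz n)).1 h2.symm

variable (a' : A) (ha' : a' ∈ I)

/-- `(aX / a'X) * a' = a` in `(Rees_I)_(a'X)` -/
theorem isLocalizationElem_mul :
    Away.isLocalizationElem (T_mem I a' ha') (T_mem I a ha) * θ I a' ha' a' = θ I a' ha' a := by
  have e : Away.isLocalizationElem (T_mem I a' ha') (T_mem I a ha) =
      frac I a' ha' 1 a (by rwa [pow_one]) := by
    apply HomogeneousLocalization.val_injective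
    unfold frac
    rw [val_mk1]
    show Localization.mk (T I a ha ^ 1) _ = _
    simp only [pow_one]
    rfl
  rw [e]
  exact frac_one_mul_θ I a' ha' a ha

end Away

end Groth.Agent.Lib.BlowUp.Rees
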