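import Mathlib.RingTheory.ReesAlgebra
import Mathlib.RingTheory.GradedAlgebra.Basic
import Groth.Prelude.Def_Rees

/-!
# The grading of the Rees algebra (lead)

ns `Groth.Agent.Lib.BlowUp.Rees`.  For an ideal `I` of a commutative ring `A`, Mathlib's
`reesAlgebra I : Subalgebra A A[X]` is graded by `deg I n = {c X^n | c ∈ I^n}`; this is the
prelude's `Rees.deg (reesAlgebra I)` (of which `deg I` is a reducible abbreviation), with the
prelude's `GradedAlgebra` instance.

* `deg I n : Submodule A (reesAlgebra I)`, `mon I n c hc = c X^n`, `mon_mem`.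
* `exists_eq_mon` : elements of degree `n` are `mon I n c hc`.
* `adjoin_eq_top` : the Rees algebra is generated by degree one over degree zero.
-/

universe u

open Polynomial

namespace Groth.Agent.Lib.BlowUp.Rees

variable {A : Type u} [CommRing A] (I : Ideal A)

/-- the degree-`n` piece of the Rees algebra: the prelude's `Rees.deg (reesAlgebra I)` -/
noncomputable abbrev deg : ℕ → Submodule A (reesAlgebra I) := _root_.Rees.deg (reesAlgebra I)

lemma mem_deg_iff {n : ℕ} {p : reesAlgebra I} :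
    p ∈ deg I n ↔ ∀ i, i ≠ n → (p : A[X]).coeff i = 0 := Iff.rfl

lemma coe_eq_monomial_of_mem {n : ℕ} {p : reesAlgebra I} (hp : p ∈ deg I n) :
    (p : A[X]) = monomial n ((p : A[X]).coeff n) := by
  ext i
  rw [coeff_monomial]
  split_ifs with h
  · rw [h]
  · exact hp i (Ne.symm h)

/-- the homogeneous element `c X^n`, `c ∈ I^n` -/
noncomputable def mon (n : ℕ) (c : A) (hc : c ∈ I ^ n) : reesAlgebra I :=
  ⟨monomial n c, reesAlgebra.monomial_mem.2 hc⟩

@[simp] lemma coe_mon (n : ℕ) (c : A) (hc : c ∈ I ^ n) :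
    ((mon I n c hc : reesAlgebra I) : A[X]) = monomial n c := rfl

lemma mon_mem (n : ℕ) (c : A) (hc : c ∈ I ^ n) : mon I n c hc ∈ deg I n := fun i hi => by
  have hi' : i ≠ n := hi
  show (monomial n c).coeff i = 0
  rw [coeff_monomial, if_neg (Ne.symm hi')]

lemma exists_eq_mon {n : ℕ} {p : reesAlgebra I} (hp : p ∈ deg I n) :
    ∃ (c : A) (hc : c ∈ I ^ n), p = mon I n c hc :=
  ⟨(p : A[X]).coeff n, p.2 n, Subtype.ext (coe_eq_monomial_of_mem I hp)⟩

lemma mon_mul_mon (m n : ℕ) (c d : A) (hc : c ∈ I ^ m) (hd : d ∈ I ^ n) :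
    mon I m c hc * mon I n d hd =
      mon I (m + n) (c * d) (by rw [pow_add]; exact Ideal.mul_mem_mul hc hd) :=
  Subtype.ext (monomial_mul_monomial m n c d)

lemma mon_add (n : ℕ) (c d : A) (hc : c ∈ I ^ n) (hd : d ∈ I ^ n) :
    mon I n (c + d) (Ideal.add_mem _ hc hd) = mon I n c hc + mon I n d hd :=
  Subtype.ext (map_add (monomial n) c d)

lemma mon_congr {m n : ℕ} (h : m = n) {c d : A} (hcd : c = d) (hc : c ∈ I ^ m) :
    mon I m c hc = mon I n d (h ▸ hcd ▸ hc) := by
  subst h hcd; rfl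

lemma mem_pow_zero (c : A) : c ∈ I ^ 0 := by
  rw [pow_zero, Ideal.one_eq_top]; trivial

lemma mon_zero_eq (c : A) :
    mon I 0 c (mem_pow_zero I c) = algebraMap A (reesAlgebra I) c :=
  Subtype.ext (by
    show monomial 0 c = ((algebraMap A (reesAlgebra I) c : reesAlgebra I) : A[X])
    rw [Subalgebra.coe_algebraMap, ← Polynomial.C_eq_algebraMap, monomial_zero_left])

lemma mon_pow (n : ℕ) (c : A) (hc : c ∈ I ^ n) (k : ℕ) :
    mon I n c hc ^ k = mon I (n * k) (c ^ k) (by rw [pow_mul]; exact Ideal.pow_mem_pow hc k) :=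
  Subtype.ext (by
    show ((mon I n c hc ^ k : reesAlgebra I) : A[X]) = monomial (n * k) (c ^ k)
    rw [SubmonoidClass.coe_pow, coe_mon, monomial_pow])

end Groth.Agent.Lib.BlowUp.Rees
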