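import Groth.Agent.Lib.BlowUp.ReesAlg
import Groth.Agent.Lib.BlowUp.Helper18_EffCartier
import Groth.Agent.Lib.Helper20.IdealComap
import Groth.Agent.Lib.Proj.PnUnique
import Groth.Prelude.Def_BlowUp2

/-!
# `Proj` of the Rees algebra: the inverse image of `I` is effective Cartier (lead)

ns `Groth.Agent.Lib.BlowUp.ReesProj`.

* `idealSheaf I`, `Bl I = Proj (Rees.deg I)`, `π I : Bl I ⟶ Spec A`, `chart I a ha`.
* `ideal_comap` : the ideal of `(idealSheaf I).comap g` on an affine open.
* `isEffCartierIdeal_of_cover` : being effective Cartier is local for open immersions.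
* `isEffCartierIdeal_comap_SpecMap`, `isEffCartierIdeal_comap_π`.
-/

universe u

open CategoryTheory CategoryTheory.Limits AlgebraicGeometry Opposite TopologicalSpace
  HomogeneousLocalization

namespace Groth.Agent.Lib.BlowUp.ReesProj

open Groth.Agent.Lib.BlowUp.Rees

section Local

/-- being effective Cartier is local for open immersions -/
theorem isEffCartierIdeal_of_cover {X : Scheme.{u}} (𝓙 : X.IdealSheafData) {ι : Type*}
    {W : ι → Scheme.{u}} (j : ∀ i, W i ⟶ X) [∀ i, IsOpenImmersion (j i)]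
    (hcov : ∀ x : X, ∃ i, x ∈ Set.range (j i).base)
    (h : ∀ i, BlowUp.IsEffCartierIdeal (𝓙.comap (j i))) : BlowUp.IsEffCartierIdeal 𝓙 := by
  intro x
  obtain ⟨i, w, rfl⟩ := hcov x
  obtain ⟨U, hwU, t, ht, hIt⟩ := h i w
  rw [Scheme.IdealSheafData.ideal_comap_of_isOpenImmersion] at hIt
  have hinv : ∀ s, ((j i).appIso U.1).hom.hom (((j i).appIso U.1).inv.hom s) = s := fun s =>
    congrArg (fun φ => φ.hom s) ((j i).appIso U.1).inv_hom_id
  have hhom : ∀ s, ((j i).appIso U.1).inv.hom (((j i).appIso U.1).hom.hom s) = s := fun s =>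
    congrArg (fun φ => φ.hom s) ((j i).appIso U.1).hom_inv_id
  refine ⟨⟨(j i) ''ᵁ U.1, U.2.image_of_isOpenImmersion (j i)⟩, ⟨w, hwU, rfl⟩,
    ((j i).appIso U.1).inv.hom t, ?_, ?_⟩
  · refine mem_nonZeroDivisors_of_forall_right _ fun z hz => ?_
    have h1 : ((j i).appIso U.1).hom.hom z * t = 0 := by
      have := congrArg ((j i).appIso U.1).hom.hom hz
      rwa [map_mul, hinv, map_zero] at this
    have h2 := (mem_nonZeroDivisors_iff_right.1 ht) _ h1
    rw [← hhom z, h2, map_zero]
  · apply le_antisymm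
    · intro s hs
      have h1 : ((j i).appIso U.1).hom.hom s ∈ Ideal.span {t} := by
        rw [← hIt, Ideal.mem_comap, hhom]; exact hs
      obtain ⟨r, hr⟩ := Ideal.mem_span_singleton'.1 h1
      rw [← hhom s, ← hr, map_mul]
      exact Ideal.mul_mem_left _ _ (Ideal.mem_span_singleton_self _)
    · rw [Ideal.span_le, Set.singleton_subset_iff]
      have h1 : t ∈ Ideal.span {t} := Ideal.mem_span_singleton_self t
      rw [← hIt, Ideal.mem_comap] at h1
      exact h1

end Local

variable {A : Type u} [CommRing A] (I : Ideal A)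

/-- the ideal sheaf of `I` on `Spec A` -/
noncomputable abbrev idealSheaf : (Spec (CommRingCat.of A)).IdealSheafData :=
  Scheme.IdealSheafData.ofIdealTop (I.map (Scheme.ΓSpecIso (CommRingCat.of A)).inv.hom)

/-- the blow-up of `Spec A` in `I` -/
noncomputable abbrev Bl : Scheme.{u} := Proj (deg I)

/-- the structure ring map `A → (Rees_I)_0` -/
noncomputable def α : CommRingCat.of A ⟶ CommRingCat.of (deg I 0) :=
  CommRingCat.ofHom (algebraMap A (deg I 0))

lemma coe_α_hom (c : A) : (((α I).hom c : deg I 0) : reesAlgebra I) = algebraMap A (reesAlgebra I) c :=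
  rfl

/-- the structure morphism of the blow-up -/
noncomputable def π : Bl I ⟶ Spec (CommRingCat.of A) :=
  Proj.toSpecZero (deg I) ≫ Spec.map (α I)

/-- the chart `Spec (Rees_I)_(aX) ⟶ Bl I` -/
noncomputable abbrev chart (a : A) (ha : a ∈ I) :
    Spec (CommRingCat.of (Away (deg I) (T I a ha))) ⟶ Bl I :=
  Proj.awayι (deg I) (T I a ha) (T_mem I a ha) one_pos

lemma chart_π (a : A) (ha : a ∈ I) :
    chart I a ha ≫ π I = Spec.map (CommRingCat.ofHom (θ I a ha)) := by
  unfold π chart
  rw [Proj.awayι_toSpecZero_assoc, ← Spec.map_comp]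
  rfl

lemma exists_mem_range_chart (x : Bl I) : ∃ a : I, x ∈ Set.range (chart I a.1 a.2).base := by
  have h := Proj.iSup_basicOpen_eq_top' (deg I) (fun a : I => T I a.1 a.2)
    (fun a => ⟨1, T_mem I a.1 a.2⟩) (adjoin_eq_top I)
  have hx : x ∈ (⨆ a : I, Proj.basicOpen (deg I) (T I a.1 a.2)) := by rw [h]; trivial
  obtain ⟨a, hxa⟩ := Opens.mem_iSup.1 hx
  refine ⟨a, ?_⟩
  have h2 := Proj.opensRange_awayι (deg I) (T I a.1 a.2) (T_mem I a.1 a.2) one_pos
  have : x ∈ (chart I a.1 a.2).opensRange := by rw [h2]; exact hxa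
  exact this

/-- the ideal of the inverse image of `I` on an affine open -/
lemma ideal_comap {Y : Scheme.{u}} (g : Y ⟶ Spec (CommRingCat.of A)) (W : Y.affineOpens) :
    ((idealSheaf I).comap g).ideal W =
      I.map ((g.appLE ⊤ W.1 (fun _ _ => trivial)).hom.comp
        (Scheme.ΓSpecIso (CommRingCat.of A)).inv.hom) := by
  rw [Groth.Agent.Lib.Helper20.ideal_comap g _ W ⟨⊤, isAffineOpen_top _⟩ (fun _ _ => trivial)]
  rw [Scheme.IdealSheafData.ofIdealTop_ideal, Ideal.map_map, Ideal.map_map]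
  congr 1

/-- for `φ : A → B` with `φ(I) B = (s)`, `s` a nonzerodivisor, the inverse image of `I` on `Spec B`
is effective Cartier -/
theorem isEffCartierIdeal_comap_SpecMap {B : Type u} [CommRing B] (φ : A →+* B) (s : B)
    (hs : s ∈ nonZeroDivisors B) (h : I.map φ = Ideal.span {s}) :
    BlowUp.IsEffCartierIdeal ((idealSheaf I).comap (Spec.map (CommRingCat.ofHom φ))) := by
  intro x
  refine ⟨⟨⊤, isAffineOpen_top _⟩, trivial,
    (Scheme.ΓSpecIso (CommRingCat.of B)).inv.hom s, ?_, ?_⟩
  · let e : B ≃+* Γ(Spec (CommRingCat.of B), ⊤) :=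
      (Scheme.ΓSpecIso (CommRingCat.of B)).symm.commRingCatIsoToRingEquiv
    exact (MulEquivClass.map_nonZeroDivisors e) ▸ Submonoid.mem_map_of_mem _ hs
  · rw [ideal_comap]
    have h1 : ((Spec.map (CommRingCat.ofHom φ)).appLE ⊤
        (⊤ : (Spec (CommRingCat.of B)).Opens) (fun _ _ => trivial)).hom.comp
        (Scheme.ΓSpecIso (CommRingCat.of A)).inv.hom =
        (Scheme.ΓSpecIso (CommRingCat.of B)).inv.hom.comp φ := by
      have h2 := Scheme.ΓSpecIso_inv_naturality (CommRingCat.ofHom φ)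
      have h3 : (Spec.map (CommRingCat.ofHom φ)).appLE ⊤
        (⊤ : (Spec (CommRingCat.of B)).Opens) (fun _ _ => trivial) =
          (Spec.map (CommRingCat.ofHom φ)).appTop :=
        Scheme.Hom.appLE_eq_app _
      rw [h3, ← CommRingCat.hom_comp, ← h2]
      rfl
    change Ideal.map _ I = _
    rw [h1, ← Ideal.map_map, h, Ideal.map_span, Set.image_singleton]

/-- the inverse image of `I` on the blow-up is effective Cartier -/
theorem isEffCartierIdeal_comap_π : BlowUp.IsEffCartierIdeal ((idealSheaf I).comap (π I)) := by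
  refine isEffCartierIdeal_of_cover _ (fun a : I => chart I a.1 a.2)
    (exists_mem_range_chart I) (fun a => ?_)
  rw [← Scheme.IdealSheafData.comap_comp, chart_π]
  exact isEffCartierIdeal_comap_SpecMap I (θ I a.1 a.2) (θ I a.1 a.2 a.1)
    (θ_mem_nonZeroDivisors I a.1 a.2) (map_θ_eq_span I a.1 a.2)

end Groth.Agent.Lib.BlowUp.ReesProj
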