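import Groth.Agent.Lib.BlowUp.ReesProjA

/-!
# `Proj` of the Rees algebra: existence of lifts (lead)

ns `Groth.Agent.Lib.BlowUp.ReesProj`.

`exists_lift` : a morphism `g : Y ⟶ Spec A` under which the inverse image of `I` is effective
Cartier factors through `π I : Bl I ⟶ Spec A`.
-/

universe u

open CategoryTheory CategoryTheory.Limits AlgebraicGeometry Opposite TopologicalSpace
  HomogeneousLocalization

namespace Groth.Agent.Lib.BlowUp.ReesProj

open Groth.Agent.Lib.BlowUp.Rees Groth.Agent.Lib.Proj.ToProj Groth.Agent.Lib.Proj.PnUnique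

variable {A : Type u} [CommRing A] (I : Ideal A) {Y : Scheme.{u}}
  (g : Y ⟶ Spec (CommRingCat.of A))

/-- the ring map `A → Γ(Y, W)` of `g` -/
noncomputable def ψ (W : Y.Opens) : A →+* Γ(Y, W) :=
  (g.appLE ⊤ W (fun _ _ => trivial)).hom.comp (Scheme.ΓSpecIso (CommRingCat.of A)).inv.hom

lemma ψ_res {W W' : Y.Opens} (h : W' ≤ W) (c : A) :
    (Y.presheaf.map (homOfLE h).op).hom (ψ g W c) = ψ g W' c := by
  have h1 := g.appLE_map (U := ⊤) (V := W) (fun _ _ => trivial) (homOfLE h).op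
  exact congrArg (fun φ => φ.hom ((Scheme.ΓSpecIso (CommRingCat.of A)).inv.hom c)) h1

lemma ideal_comap' (W : Y.affineOpens) :
    ((idealSheaf I).comap g).ideal W = I.map (ψ g W.1) := ideal_comap I g W

lemma map_ψ_res {W W' : Y.Opens} (h : W' ≤ W) :
    (I.map (ψ g W)).map (Y.presheaf.map (homOfLE h).op).hom = I.map (ψ g W') := by
  rw [Ideal.map_map]
  congr 1
  ext c
  exact ψ_res g h c

/-- the index set of the good affine opens -/
def Idx : Type u :=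
  {p : Y.affineOpens × I // ψ g p.1.1 p.2.1 ∈ nonZeroDivisors Γ(Y, p.1.1) ∧
    I.map (ψ g p.1.1) = Ideal.span {ψ g p.1.1 p.2.1}}

variable (hg : BlowUp.IsEffCartierIdeal ((idealSheaf I).comap g))

include hg in
/-- the good affine opens cover `Y`, and can be taken arbitrarily small -/
theorem exists_idx (y : Y) (O : Y.Opens) (hyO : y ∈ O) :
    ∃ i : Idx I g, y ∈ i.1.1.1 ∧ i.1.1.1 ≤ O := by
  obtain ⟨W0, hy, hW0O, t, ht, hIt⟩ := exists_le_of_isEffCartierIdeal hg y O hyO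
  rw [ideal_comap'] at hIt
  let S : Set Γ(Y, W0.1) := {c | ∃ a ∈ I, ψ g W0.1 a = c * t}
  have key : ∀ x ∈ I.map (ψ g W0.1), ∃ s ∈ Ideal.span S, x = s * t := by
    intro x hx
    refine Submodule.span_induction (p := fun x _ => ∃ s ∈ Ideal.span S, x = s * t)
      ?_ ?_ ?_ ?_ hx
    · rintro _ ⟨a, ha, rfl⟩
      have h1 : ψ g W0.1 a ∈ Ideal.span {t} := hIt ▸ Ideal.mem_map_of_mem _ ha
      obtain ⟨c, hc⟩ := Ideal.mem_span_singleton'.1 h1
      exact ⟨c, Ideal.subset_span ⟨a, ha, hc.symm⟩, hc.symm⟩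
    · exact ⟨0, Ideal.zero_mem _, (zero_mul t).symm⟩
    · rintro x y _ _ ⟨s, hs, rfl⟩ ⟨s', hs', rfl⟩
      exact ⟨s + s', Ideal.add_mem _ hs hs', (add_mul s s' t).symm⟩
    · rintro r x _ ⟨s, hs, rfl⟩
      exact ⟨r * s, Ideal.mul_mem_left _ _ hs, by rw [smul_eq_mul, mul_assoc]⟩
  have hS : Ideal.span S = ⊤ := by
    obtain ⟨s, hs, hst⟩ := key t (hIt ▸ Ideal.mem_span_singleton_self t)
    have h1 : s = 1 := by
      have h2 : s * t = 1 * t := by rw [one_mul]; exact hst.symm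
      exact (mul_cancel_right_mem_nonZeroDivisors ht).1 h2
    rw [Ideal.eq_top_iff_one, ← h1]
    exact hs
  have hW0 : IsAffineOpen W0.1 := W0.2
  have hcov := (IsAffineOpen.iSup_basicOpen_eq_self_iff hW0 (s := S)).2 hS
  have hy' : y ∈ (⨆ f : S, Y.basicOpen (f : Γ(Y, W0.1))) := by rw [hcov]; exact hy
  obtain ⟨⟨c, a, ha, hac⟩, hyc⟩ := Opens.mem_iSup.1 hy'
  have hle : Y.basicOpen c ≤ W0.1 := Y.basicOpen_le c
  have hunit : IsUnit ((Y.presheaf.map (homOfLE hle).op).hom c) :=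
    RingedSpace.isUnit_res_basicOpen Y.toRingedSpace c
  have hψa : ψ g (Y.basicOpen c) a = (Y.presheaf.map (homOfLE hle).op).hom c *
      (Y.presheaf.map (homOfLE hle).op).hom t := by
    rw [← ψ_res g hle a, hac, map_mul]
  refine ⟨⟨(⟨Y.basicOpen c, hW0.basicOpen c⟩, ⟨a, ha⟩), ?_, ?_⟩, hyc, hle.trans hW0O⟩
  · show ψ g (Y.basicOpen c) a ∈ _
    rw [hψa]
    exact mul_mem (IsUnit.mem_nonZeroDivisors hunit) (res_mem_nonZeroDivisors hW0 hle t ht)
  · show I.map (ψ g (Y.basicOpen c)) = Ideal.span {ψ g (Y.basicOpen c) a}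
    rw [hψa, ← map_ψ_res I g hle, hIt, Ideal.map_span, Set.image_singleton,
      Ideal.span_singleton_mul_left_unit hunit]

/-- the chosen ring map `Rees_I → Γ(Y, W)`, `c X^n ↦ ψ c / ψ a ^ n` -/
noncomputable def liftHom (i : Idx I g) : reesAlgebra I →+* Γ(Y, i.1.1.1) :=
  (exists_lift I (ψ g i.1.1.1) (ψ g i.1.1.1 i.1.2.1) i.2.1 i.2.2).choose

lemma liftHom_spec (i : Idx I g) (n : ℕ) (c : A) (hc : c ∈ I ^ n) :
    liftHom I g i (mon I n c hc) * ψ g i.1.1.1 i.1.2.1 ^ n = ψ g i.1.1.1 c :=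
  (exists_lift I (ψ g i.1.1.1) (ψ g i.1.1.1 i.1.2.1) i.2.1 i.2.2).choose_spec n c hc

lemma liftHom_T (i j : Idx I g) :
    liftHom I g i (T I j.1.2.1 j.1.2.2) * ψ g i.1.1.1 i.1.2.1 = ψ g i.1.1.1 j.1.2.1 := by
  have h := liftHom_spec I g i 1 j.1.2.1 (by rw [pow_one]; exact j.1.2.2)
  rw [pow_one (ψ g i.1.1.1 i.1.2.1)] at h
  exact h

lemma liftHom_T_self (i : Idx I g) : liftHom I g i (T I i.1.2.1 i.1.2.2) = 1 := by
  have h := liftHom_T I g i i
  have h2 : liftHom I g i (T I i.1.2.1 i.1.2.2) * ψ g i.1.1.1 i.1.2.1 =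
      1 * ψ g i.1.1.1 i.1.2.1 := by rw [one_mul]; exact h
  exact (mul_cancel_right_mem_nonZeroDivisors i.2.1).1 h2

lemma liftHom_algebraMap (i : Idx I g) (c : A) :
    liftHom I g i (algebraMap A (reesAlgebra I) c) = ψ g i.1.1.1 c := by
  have h := liftHom_spec I g i 0 c (mem_pow_zero I c)
  rwa [pow_zero, mul_one, mon_zero_eq] at h

omit hg in
lemma compat_aux {Bi Bj N : Type*} [CommRing Bi] [CommRing Bj] [CommRing N]
    (ri : Bi →+* N) (rj : Bj →+* N) (ψi : A →+* Bi) (ψj : A →+* Bj) (ψN : A →+* N)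
    (hi : ∀ c, ri (ψi c) = ψN c) (hj : ∀ c, rj (ψj c) = ψN c)
    (ai aj : A) (hai : ai ∈ I) (haj : aj ∈ I)
    (hnzj : ψN aj ∈ nonZeroDivisors N)
    (fi : reesAlgebra I →+* Bi) (fj : reesAlgebra I →+* Bj)
    (hfi : ∀ (n : ℕ) (c : A) (hc : c ∈ I ^ n), fi (mon I n c hc) * ψi ai ^ n = ψi c)
    (hfj : ∀ (n : ℕ) (c : A) (hc : c ∈ I ^ n), fj (mon I n c hc) * ψj aj ^ n = ψj c) :
    ∃ u : N, IsUnit u ∧ ∀ (k : ℕ) (x : reesAlgebra I), x ∈ deg I k →
      rj (fj x) = u ^ k * ri (fi x) := by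
  have hu : rj (fj (T I ai hai)) * ψN aj = ψN ai := by
    have h := congrArg rj (hfj 1 ai (by rwa [pow_one]))
    rw [map_mul, map_pow, hj, hj, pow_one (ψN aj)] at h
    exact h
  have hv : ri (fi (T I aj haj)) * ψN ai = ψN aj := by
    have h := congrArg ri (hfi 1 aj (by rwa [pow_one]))
    rw [map_mul, map_pow, hi, hi, pow_one (ψN ai)] at h
    exact h
  have huv : rj (fj (T I ai hai)) * ri (fi (T I aj haj)) = 1 := by
    have h : rj (fj (T I ai hai)) * ri (fi (T I aj haj)) * ψN aj = 1 * ψN aj := by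
      calc rj (fj (T I ai hai)) * ri (fi (T I aj haj)) * ψN aj
          = ri (fi (T I aj haj)) * (rj (fj (T I ai hai)) * ψN aj) := by ring
        _ = ri (fi (T I aj haj)) * ψN ai := by rw [hu]
        _ = ψN aj := hv
        _ = 1 * ψN aj := (one_mul _).symm
    exact (mul_cancel_right_mem_nonZeroDivisors hnzj).1 h
  refine ⟨rj (fj (T I ai hai)), IsUnit.of_mul_eq_one _ huv, fun k x hx => ?_⟩
  obtain ⟨c, hc, rfl⟩ := exists_eq_mon I hx
  have h1 : rj (fj (mon I k c hc)) * ψN aj ^ k = ψN c := by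
    have h := congrArg rj (hfj k c hc)
    rwa [map_mul, map_pow, hj, hj] at h
  have h2 : ri (fi (mon I k c hc)) * ψN ai ^ k = ψN c := by
    have h := congrArg ri (hfi k c hc)
    rwa [map_mul, map_pow, hi, hi] at h
  have h3 : rj (fj (mon I k c hc)) * ψN aj ^ k =
      rj (fj (T I ai hai)) ^ k * ri (fi (mon I k c hc)) * ψN aj ^ k := by
    rw [h1, ← h2, ← hu, mul_pow]
    ring
  exact (mul_cancel_right_mem_nonZeroDivisors (pow_mem hnzj k)).1 h3

omit hg in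
/-- compatibility of the chosen ring maps on overlaps -/
theorem liftHom_compat (i j : Idx I g) :
    ∃ u : Γ(Y, i.1.1.1 ⊓ j.1.1.1), IsUnit u ∧ ∀ (k : ℕ) (x : reesAlgebra I), x ∈ deg I k →
      (Y.presheaf.map (homOfLE (inf_le_right : i.1.1.1 ⊓ j.1.1.1 ≤ j.1.1.1)).op).hom
        (liftHom I g j x) = u ^ k *
      (Y.presheaf.map (homOfLE (inf_le_left : i.1.1.1 ⊓ j.1.1.1 ≤ i.1.1.1)).op).hom
        (liftHom I g i x) := by
  have hWj : IsAffineOpen j.1.1.1 := j.1.1.2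
  refine compat_aux I
    (Y.presheaf.map (homOfLE (inf_le_left : i.1.1.1 ⊓ j.1.1.1 ≤ i.1.1.1)).op).hom
    (Y.presheaf.map (homOfLE (inf_le_right : i.1.1.1 ⊓ j.1.1.1 ≤ j.1.1.1)).op).hom
    (ψ g i.1.1.1) (ψ g j.1.1.1) (ψ g (i.1.1.1 ⊓ j.1.1.1))
    (ψ_res g inf_le_left) (ψ_res g inf_le_right) i.1.2.1 j.1.2.1 i.1.2.2 j.1.2.2 ?_
    (liftHom I g i) (liftHom I g j) (liftHom_spec I g i) (liftHom_spec I g j)
  rw [← ψ_res g (inf_le_right : i.1.1.1 ⊓ j.1.1.1 ≤ j.1.1.1)]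
  exact res_mem_nonZeroDivisors hWj inf_le_right _ j.2.1

include hg in
/-- **existence of lifts to the blow-up** -/
theorem exists_lift : ∃ r : Y ⟶ Bl I, r ≫ π I = g := by
  have hU : TopologicalSpace.IsOpenCover (fun i : Idx I g => i.1.1.1) := by
    show (⨆ i : Idx I g, i.1.1.1) = ⊤
    rw [eq_top_iff]
    intro y _
    obtain ⟨i, hy, -⟩ := exists_idx I g hg y ⊤ trivial
    exact Opens.mem_iSup.2 ⟨i, hy⟩
  obtain ⟨r, hr⟩ := exists_glue_toProjChart' (deg I) Y (fun i : Idx I g => i.1.1.1) hU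
    (fun i => T I i.1.2.1 i.1.2.2) (fun _ => 1) (fun i => T_mem I _ _) (fun _ => one_pos)
    (fun i => liftHom I g i) (fun i => by rw [liftHom_T_self]; exact isUnit_one)
    (fun i j => liftHom_compat I g i j)
  refine ⟨r, ?_⟩
  refine Scheme.hom_ext_of_forall _ _ (fun y => ?_)
  obtain ⟨i, hy, -⟩ := exists_idx I g hg y ⊤ trivial
  refine ⟨i.1.1.1, hy, ?_⟩
  have hr' := hr i
  rw [← Category.assoc, hr']
  unfold π
  rw [← Category.assoc, toProjChart_toSpecZero, Category.assoc, ← Spec.map_comp,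
    eq_toSpecΓ_SpecMap (i.1.1.1.ι ≫ g)]
  refine congrArg (fun m => i.1.1.1.toScheme.toSpecΓ ≫ Spec.map m) ?_
  have e1 : i.1.1.1.topIso.inv = i.1.1.1.ι.appLE i.1.1.1 ⊤ i.1.1.1.ι_preimage_self.ge := by
    rw [Scheme.Opens.ι_appLE]; rfl
  have e2 : (i.1.1.1.ι ≫ g).appTop = (i.1.1.1.ι ≫ g).appLE ⊤ ⊤ le_top :=
    Scheme.Hom.app_eq_appLE _
  have e3 : g.appLE ⊤ i.1.1.1 (fun _ _ => trivial) ≫ i.1.1.1.topIso.inv =
      (i.1.1.1.ι ≫ g).appTop := by
    rw [e1, e2]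
    exact Scheme.Hom.appLE_comp_appLE i.1.1.1.ι g ⊤ i.1.1.1 ⊤ _ _
  rw [← e3]
  refine CommRingCat.hom_ext (RingHom.ext fun c => ?_)
  simp only [CommRingCat.hom_comp, CommRingCat.hom_ofHom, RingHom.comp_apply]
  refine congrArg (fun z => i.1.1.1.topIso.inv.hom z) ?_
  exact liftHom_algebraMap I g i c

end Groth.Agent.Lib.BlowUp.ReesProj
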