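import Groth.Agent.Lib.BlowUp.ReesProjB

/-!
# `Proj` of the Rees algebra: uniqueness of lifts, the universal property (lead)

ns `Groth.Agent.Lib.BlowUp.ReesProj`.

* `lift_unique` : lifts to `Bl I` are unique.
* `isBlowUp_π` : `π I : Bl I ⟶ Spec A` is a blowing up of `Spec A` in `I`.
-/

universe u

open CategoryTheory CategoryTheory.Limits AlgebraicGeometry Opposite TopologicalSpace
  HomogeneousLocalization

namespace Groth.Agent.Lib.BlowUp.ReesProj

open Groth.Agent.Lib.BlowUp.Rees Groth.Agent.Lib.Proj.ToProj Groth.Agent.Lib.Proj.PnUnique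

variable {A : Type u} [CommRing A] (I : Ideal A) {Y : Scheme.{u}}
  (g : Y ⟶ Spec (CommRingCat.of A))

lemma appLE_comp_topIso_inv (W : Y.Opens) :
    g.appLE ⊤ W (fun _ _ => trivial) ≫ W.topIso.inv = (W.ι ≫ g).appTop := by
  have e1 : W.topIso.inv = W.ι.appLE W ⊤ W.ι_preimage_self.ge := by
    rw [Scheme.Opens.ι_appLE]; rfl
  have e2 : (W.ι ≫ g).appTop = (W.ι ≫ g).appLE ⊤ ⊤ le_top := Scheme.Hom.app_eq_appLE _
  rw [e1, e2]
  exact Scheme.Hom.appLE_comp_appLE W.ι g ⊤ W ⊤ _ _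

/-- the ring map `A → Γ(W, ⊤)` of `g` on the open subscheme `W` -/
noncomputable def ψ' (W : Y.Opens) : A →+* Γ(W.toScheme, ⊤) := W.topIso.inv.hom.comp (ψ g W)

lemma ι_comp_eq_SpecMap (W : Y.Opens) :
    W.ι ≫ g = W.toScheme.toSpecΓ ≫ Spec.map (CommRingCat.ofHom (ψ' g W)) := by
  rw [eq_toSpecΓ_SpecMap (W.ι ≫ g)]
  refine congrArg (fun m => W.toScheme.toSpecΓ ≫ Spec.map m) ?_
  rw [← appLE_comp_topIso_inv]
  rfl

lemma mem_nonZeroDivisors_ψ' (W : Y.Opens) (c : A) (hc : ψ g W c ∈ nonZeroDivisors Γ(Y, W)) :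
    ψ' g W c ∈ nonZeroDivisors Γ(W.toScheme, ⊤) := by
  refine mem_nonZeroDivisors_of_forall_right _ fun z hz => ?_
  have hinv : ∀ s, W.topIso.inv.hom (W.topIso.hom.hom s) = s := fun s =>
    congrArg (fun φ => φ.hom s) W.topIso.hom_inv_id
  have hhom : ∀ s, W.topIso.hom.hom (W.topIso.inv.hom s) = s := fun s =>
    congrArg (fun φ => φ.hom s) W.topIso.inv_hom_id
  have h1 : W.topIso.hom.hom z * ψ g W c = 0 := by
    have := congrArg W.topIso.hom.hom hz
    rw [map_mul, map_zero] at this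
    rw [← this]
    congr 1
    exact (hhom _).symm
  have h2 := (mem_nonZeroDivisors_iff_right.1 hc) _ h1
  rw [← hinv z, h2, map_zero]

section Chart

variable (h : Y ⟶ Bl I) (e : h ≫ π I = g)

include e in
/-- the chart ring map of a lift restricted to `A` -/
lemma chartRingHom_θ (a : A) (ha : a ∈ I) (W : Y.Opens)
    (hW : W ≤ h ⁻¹ᵁ Proj.basicOpen (deg I) (T I a ha)) (c : A) :
    chartRingHom (deg I) h W (T_mem I a ha) one_pos hW (θ I a ha c) = ψ' g W c := by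
  have h1 := ι_comp_toSpecZero (deg I) h W (T_mem I a ha) one_pos hW
  have h2 : (W.ι ≫ h) ≫ π I = W.toScheme.toSpecΓ ≫ Spec.map (CommRingCat.ofHom
      ((chartRingHom (deg I) h W (T_mem I a ha) one_pos hW).comp (θ I a ha))) := by
    have e1 : (W.ι ≫ h) ≫ π I = ((W.ι ≫ h) ≫ Proj.toSpecZero (deg I)) ≫
        Spec.map (α I) := (Category.assoc _ _ _).symm
    refine e1.trans ((congrArg (fun m => m ≫ Spec.map (α I)) h1).trans ?_)
    refine (Category.assoc _ _ _).trans (congrArg (fun m => W.toScheme.toSpecΓ ≫ m) ?_)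
    exact (Spec.map_comp (α I)
      (CommRingCat.ofHom ((chartRingHom (deg I) h W (T_mem I a ha) one_pos hW).comp
        (fromZeroRingHom (deg I) (Submonoid.powers (T I a ha)))))).symm
  rw [Category.assoc, e, ι_comp_eq_SpecMap] at h2
  have h3 := toSpecΓ_SpecMap_injective _ _ h2
  exact (congrArg (fun k => k.hom c) h3).symm

include e in
/-- if `a` generates the inverse image of `I` on `W ⊆ h⁻¹ D₊(a'X)` then `W ⊆ h⁻¹ D₊(aX)` -/
lemma le_preimage_of_generates (a a' : A) (ha : a ∈ I) (ha' : a' ∈ I) (W : Y.Opens)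
    (hW : W ≤ h ⁻¹ᵁ Proj.basicOpen (deg I) (T I a' ha'))
    (hnz : ψ' g W a' ∈ nonZeroDivisors Γ(W.toScheme, ⊤))
    (w : Γ(W.toScheme, ⊤)) (hw : ψ' g W a' = w * ψ' g W a) :
    W ≤ h ⁻¹ᵁ Proj.basicOpen (deg I) (T I a ha) := by
  obtain ⟨φ', hφ'⟩ : ∃ φ', φ' = chartRingHom (deg I) h W (T_mem I a' ha') one_pos hW := ⟨_, rfl⟩
  have hel : φ' (Away.isLocalizationElem (T_mem I a' ha') (T_mem I a ha)) * ψ' g W a' =
      ψ' g W a := by
    have h1 := congrArg φ' (isLocalizationElem_mul I a ha a' ha')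
    rw [map_mul, hφ', chartRingHom_θ I g h e, chartRingHom_θ I g h e] at h1
    rw [hφ']
    exact h1
  have hunit : IsUnit (φ' (Away.isLocalizationElem (T_mem I a' ha') (T_mem I a ha))) := by
    have h2 : w * φ' (Away.isLocalizationElem (T_mem I a' ha') (T_mem I a ha)) * ψ' g W a' =
        1 * ψ' g W a' := by
      rw [mul_assoc, hel, one_mul, ← hw]
    have h3 := (mul_cancel_right_mem_nonZeroDivisors hnz).1 h2
    exact IsUnit.of_mul_eq_one _ (by rw [mul_comm]; exact h3)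
  intro y hy
  have key := ι_comp_eq (deg I) h W (T_mem I a' ha') one_pos hW
  rw [← hφ'] at key
  show h y ∈ Proj.basicOpen (deg I) (T I a ha)
  have hy1 : h y = (W.ι ≫ h) ⟨y, hy⟩ := rfl
  rw [hy1, key]
  show (Proj.awayι (deg I) (T I a' ha') (T_mem I a' ha') one_pos)
    ((W.toScheme.toSpecΓ ≫ Spec.map (CommRingCat.ofHom φ')) ⟨y, hy⟩) ∈ _
  have hpre := Proj.awayι_preimage_basicOpen (deg I) (T_mem I a' ha') one_pos (T_mem I a ha)
    one_pos
  have : (W.toScheme.toSpecΓ ≫ Spec.map (CommRingCat.ofHom φ')) ⟨y, hy⟩ ∈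
      Proj.awayι (deg I) (T I a' ha') (T_mem I a' ha') one_pos ⁻¹ᵁ
        Proj.basicOpen (deg I) (T I a ha) := by
    rw [hpre]
    show Spec.map (CommRingCat.ofHom φ') (W.toScheme.toSpecΓ ⟨y, hy⟩) ∈ _
    change Away.isLocalizationElem (T_mem I a' ha') (T_mem I a ha) ∉
      (PrimeSpectrum.comap φ' (W.toScheme.toSpecΓ ⟨y, hy⟩)).asIdeal
    intro hmem
    have hmem' : φ' (Away.isLocalizationElem (T_mem I a' ha') (T_mem I a ha)) ∈
        (W.toScheme.toSpecΓ ⟨y, hy⟩).asIdeal := hmem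
    exact (W.toScheme.toSpecΓ ⟨y, hy⟩).isPrime.ne_top (Ideal.eq_top_of_isUnit_mem _ hmem' hunit)
  exact this

end Chart

variable (hg : BlowUp.IsEffCartierIdeal ((idealSheaf I).comap g))

include hg in
/-- **uniqueness of lifts to the blow-up** -/
theorem lift_unique (h₁ h₂ : Y ⟶ Bl I) (e₁ : h₁ ≫ π I = g) (e₂ : h₂ ≫ π I = g) : h₁ = h₂ := by
  refine Scheme.hom_ext_of_forall _ _ (fun y => ?_)
  obtain ⟨a1, hy1⟩ := exists_mem_range_chart I (h₁ y)
  obtain ⟨a2, hy2⟩ := exists_mem_range_chart I (h₂ y)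
  have hD1 : h₁ y ∈ Proj.basicOpen (deg I) (T I a1.1 a1.2) := by
    have := Proj.opensRange_awayι (deg I) (T I a1.1 a1.2) (T_mem I a1.1 a1.2) one_pos
    rw [← this]; exact hy1
  have hD2 : h₂ y ∈ Proj.basicOpen (deg I) (T I a2.1 a2.2) := by
    have := Proj.opensRange_awayι (deg I) (T I a2.1 a2.2) (T_mem I a2.1 a2.2) one_pos
    rw [← this]; exact hy2
  obtain ⟨i, hyW, hWO⟩ := exists_idx I g hg y
    (h₁ ⁻¹ᵁ Proj.basicOpen (deg I) (T I a1.1 a1.2) ⊓ h₂ ⁻¹ᵁ Proj.basicOpen (deg I) (T I a2.1 a2.2))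
    ⟨hD1, hD2⟩
  obtain ⟨W, hW⟩ : ∃ W : Y.Opens, W = i.1.1.1 := ⟨_, rfl⟩
  obtain ⟨a, ha, haa⟩ : ∃ (a : A) (ha : a ∈ I), a = i.1.2.1 := ⟨_, i.1.2.2, rfl⟩
  have hnz : ψ' g W a ∈ nonZeroDivisors Γ(W.toScheme, ⊤) := by
    rw [hW, haa]; exact mem_nonZeroDivisors_ψ' g _ _ i.2.1
  have hmap : I.map (ψ g W) = Ideal.span {ψ g W a} := by rw [hW, haa]; exact i.2.2
  rw [← hW] at hyW hWO
  have hW1 : W ≤ h₁ ⁻¹ᵁ Proj.basicOpen (deg I) (T I a1.1 a1.2) := hWO.trans inf_le_left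
  have hW2 : W ≤ h₂ ⁻¹ᵁ Proj.basicOpen (deg I) (T I a2.1 a2.2) := hWO.trans inf_le_right
  -- general step: a lift mapping `W` into the chart of `b` maps it into the chart of `a`
  have step : ∀ (h : Y ⟶ Bl I) (_ : h ≫ π I = g) (b : A) (hb : b ∈ I)
      (_ : W ≤ h ⁻¹ᵁ Proj.basicOpen (deg I) (T I b hb)),
      W ≤ h ⁻¹ᵁ Proj.basicOpen (deg I) (T I a ha) := by
    intro h e b hb hWb
    -- `ψ' a = w₁ * ψ' b`
    have h1 : chartRingHom (deg I) h W (T_mem I b hb) one_pos hWb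
        (frac I b hb 1 a (by rwa [pow_one])) * ψ' g W b = ψ' g W a := by
      have := congrArg (chartRingHom (deg I) h W (T_mem I b hb) one_pos hWb)
        (frac_one_mul_θ I b hb a ha)
      rwa [map_mul, chartRingHom_θ I g h e, chartRingHom_θ I g h e] at this
    -- `ψ' b` is a nonzerodivisor
    have hnzb : ψ' g W b ∈ nonZeroDivisors Γ(W.toScheme, ⊤) := by
      refine mem_nonZeroDivisors_of_forall_right _ fun z hz => ?_
      refine (mem_nonZeroDivisors_iff_right.1 hnz) z ?_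
      rw [← h1, ← mul_assoc, mul_comm z, mul_assoc, hz, mul_zero]
    -- `ψ' b = w * ψ' a`
    have h2 : ψ g W b ∈ Ideal.span {ψ g W a} := hmap ▸ Ideal.mem_map_of_mem _ hb
    obtain ⟨w, hw⟩ := Ideal.mem_span_singleton'.1 h2
    refine le_preimage_of_generates I g h e a b ha hb W hWb hnzb (W.topIso.inv.hom w) ?_
    show W.topIso.inv.hom (ψ g W b) = W.topIso.inv.hom w * W.topIso.inv.hom (ψ g W a)
    rw [← map_mul, hw]
  have hWa1 := step h₁ e₁ a1.1 a1.2 hW1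
  have hWa2 := step h₂ e₂ a2.1 a2.2 hW2
  refine ⟨W, hyW, ?_⟩
  rw [ι_comp_eq (deg I) h₁ W (T_mem I a ha) one_pos hWa1,
    ι_comp_eq (deg I) h₂ W (T_mem I a ha) one_pos hWa2]
  have hφ : chartRingHom (deg I) h₁ W (T_mem I a ha) one_pos hWa1 =
      chartRingHom (deg I) h₂ W (T_mem I a ha) one_pos hWa2 := by
    refine away_ringHom_ext I a ha _ _ (fun c => ?_) ?_
    · rw [chartRingHom_θ I g h₁ e₁, chartRingHom_θ I g h₂ e₂]
    · rw [chartRingHom_θ I g h₁ e₁]; exact hnz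
  rw [hφ]

include hg in
theorem existsUnique_lift : ∃! r : Y ⟶ Bl I, r ≫ π I = g := by
  obtain ⟨r, hr⟩ := exists_lift I g hg
  exact ⟨r, hr, fun r' hr' => lift_unique I g hg r' r hr' hr⟩

/-- **`Proj` of the Rees algebra is the blowing up of `Spec A` in `I`** -/
theorem isBlowUp_π : BlowUp.IsBlowUp (π I) (idealSheaf I) :=
  ⟨isEffCartierIdeal_comap_π I, fun _ g hg => existsUnique_lift I g hg⟩

end Groth.Agent.Lib.BlowUp.ReesProj
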