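import Groth.Agent.Lib.BlowUp.RegSurfAlg
import Groth.Agent.Lib.BlowUp.Charts
import Groth.Agent.Lib.BlowUp.GenCover
import Groth.Agent.S8264

/-!
# The blow-up of a two-dimensional regular local ring in its maximal ideal is regular (lead)

ns `Groth.Agent.Lib.BlowUp.RegSurf`.
-/

universe u

open CategoryTheory CategoryTheory.Limits AlgebraicGeometry Opposite TopologicalSpace
  HomogeneousLocalization Polynomial IsLocalRing

namespace Groth.Agent.Lib.BlowUp.RegSurf

open Groth.Agent.Lib.BlowUp.Rees Groth.Agent.Lib.BlowUp.ReesProj Groth.Agent.Lib.BlowUp.RegSurfAlg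
  Groth.Agent.Lib.BlowUp.Charts

section General

/-- the stalks of a scheme at points of an affine open with regular coordinate ring are regular -/
theorem isRegularLocalRing_stalk_of_isAffineOpen {X : Scheme.{u}} {U : X.Opens} (hU : IsAffineOpen U)
    (hreg : IsRegularRing Γ(X, U)) (p : X) (hp : p ∈ U) :
    IsRegularLocalRing (X.presheaf.stalk p) := by
  let _ := X.presheaf.algebra_section_stalk ⟨p, hp⟩
  have := hU.isLocalization_stalk ⟨p, hp⟩
  exact IsRegularLocalRing.of_ringEquiv (IsLocalization.algEquiv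
    (hU.primeIdealOf ⟨p, hp⟩).asIdeal.primeCompl
    (Localization.AtPrime (hU.primeIdealOf ⟨p, hp⟩).asIdeal) (X.presheaf.stalk p)).toRingEquiv

theorem irreducibleSpace_of_iso {X Y : Scheme.{u}} (e : X ≅ Y) [IrreducibleSpace Y] :
    IrreducibleSpace X := by
  rw [irreducibleSpace_def]
  have h1 := (IrreducibleSpace.isIrreducible_univ Y).image e.inv.base
    e.inv.continuous.continuousOn
  have h2 : e.inv.base '' Set.univ = Set.univ := by
    rw [Set.image_univ]
    exact Set.range_eq_univ.2 e.inv.surjective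
  rwa [h2] at h1

end General

variable {A : Type u} [CommRing A] (I : Ideal A) (x y : A) (hx : x ∈ I) (hy : y ∈ I)

/-- `A[X] → (Rees_I)_(xX)`, `X ↦ yX / xX` -/
noncomputable def ψ : A[X] →+* Away (deg I) (T I x hx) :=
  Polynomial.eval₂RingHom (θ I x hx) (frac I x hx 1 y (by rwa [pow_one]))

lemma ψ_C (c : A) : ψ I x y hx hy (C c) = θ I x hx c := by
  unfold ψ; simp

lemma ψ_X : ψ I x y hx hy X = frac I x hx 1 y (by rwa [pow_one]) := by
  unfold ψ; simp

lemma ψ_rel : ψ I x y hx hy (rel x y) = 0 := by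
  unfold rel
  rw [map_sub, map_mul, ψ_C, ψ_C, ψ_X]
  have h := frac_one_mul_θ I x hx y hy
  rw [← h]
  ring

lemma exists_ψ_mul_pow (hI : Ideal.span {x, y} = I) (n : ℕ) :
    ∀ c ∈ I ^ n, ∃ p : A[X], ψ I x y hx hy p * θ I x hx x ^ n = θ I x hx c := by
  induction n with
  | zero =>
    intro c _
    exact ⟨C c, by rw [ψ_C]; ring⟩
  | succ n ih =>
    intro c hc
    rw [pow_succ', ← smul_eq_mul] at hc
    refine Submodule.smul_induction_on hc ?_ ?_
    · intro r hr s hs
      obtain ⟨p, hp⟩ := ih s hs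
      rw [← hI] at hr
      obtain ⟨u, v, rfl⟩ := Ideal.mem_span_pair.1 hr
      refine ⟨(C u + C v * X) * p, ?_⟩
      have e : θ I x hx ((u * x + v * y) • s) =
          (θ I x hx u * θ I x hx x + θ I x hx v * θ I x hx y) * θ I x hx s := by
        rw [smul_eq_mul, map_mul, map_add, map_mul, map_mul]
      have hf := frac_one_mul_θ I x hx y hy
      rw [map_mul, map_add, map_mul, ψ_C, ψ_C, ψ_X, e, ← hp, ← hf]
      ring
    · rintro c d ⟨p, hp⟩ ⟨q, hq⟩
      exact ⟨p + q, by rw [map_add, map_add, ← hp, ← hq]; ring⟩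

lemma ψ_surjective (hI : Ideal.span {x, y} = I) : Function.Surjective (ψ I x y hx hy) := by
  intro z
  obtain ⟨n, c, hc, rfl⟩ := exists_eq_frac I x hx z
  obtain ⟨p, hp⟩ := exists_ψ_mul_pow I x y hx hy hI n c hc
  refine ⟨p, ?_⟩
  rw [← frac_mul_θ_pow I x hx n c hc] at hp
  exact (mul_cancel_right_mem_nonZeroDivisors (pow_mem (θ_mem_nonZeroDivisors I x hx) n)).1 hp

lemma θ_injective [IsDomain A] (hx0 : x ≠ 0) : Function.Injective (θ I x hx) := by
  intro c d h
  have h1 := congrArg (Φ I x hx) h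
  rw [Φ_θ, Φ_θ] at h1
  exact IsLocalization.injective (Localization.Away x)
    (powers_le_nonZeroDivisors_of_noZeroDivisors hx0) h1

include hx in
theorem irreducibleSpace_Bl [IsDomain A] (hx0 : x ≠ 0) : IrreducibleSpace (Bl I) := by
  have : IsDomain (reesAlgebra I) := inferInstance
  refine Groth.Agent.S8264.proj_irreducibleSpace (deg I) ?_
  intro h
  have hmem : T I x hx ∈ (HomogeneousIdeal.irrelevant (deg I)).toIdeal :=
    HomogeneousIdeal.mem_irrelevant_of_mem _ one_pos (T_mem I x hx)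
  rw [h] at hmem
  have h0 : T I x hx = 0 := hmem
  unfold T at h0
  exact hx0 ((mon_eq_zero_iff I 1 x _).1 h0)

section Reg

variable [IsRegularLocalRing A] (hA : ringKrullDim A = 2)
  (hxy : Ideal.span {x, y} = maximalIdeal A)

include hA hxy in
theorem ker_ψ (hx' : x ∈ maximalIdeal A) (hy' : y ∈ maximalIdeal A) :
    RingHom.ker (ψ (maximalIdeal A) x y hx' hy') = Ideal.span {rel x y} := by
  have : IsDomain A := Groth.Agent.S0558.result A
  refine ker_eq_span (ne_zero hA hxy) (regular_mod hA hxy) _ ?_ (ψ_rel _ x y hx' hy')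
  intro c d h
  apply θ_injective (maximalIdeal A) x hx' (ne_zero hA hxy)
  rw [← ψ_C _ x y hx' hy', ← ψ_C _ x y hx' hy']
  exact h

include hA hxy in
/-- the chart ring `(Rees_m)_(xX)` is a regular ring -/
theorem isRegularRing_away (hx' : x ∈ maximalIdeal A) (hy' : y ∈ maximalIdeal A) :
    IsRegularRing (Away (deg (maximalIdeal A)) (T (maximalIdeal A) x hx')) := by
  have := isRegularRing_quot hA hxy
  have e1 : (A[X] ⧸ Ideal.span {rel x y}) ≃+*
      (A[X] ⧸ RingHom.ker (ψ (maximalIdeal A) x y hx' hy')) :=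
    Ideal.quotEquivOfEq (ker_ψ x y hA hxy hx' hy').symm
  have e2 := RingHom.quotientKerEquivOfSurjective (ψ_surjective (maximalIdeal A) x y hx' hy' hxy)
  exact IsRegularRing.of_ringEquiv (e1.trans e2)

include hA hxy in
theorem isRegularLocalRing_stalk_of_mem (hx' : x ∈ maximalIdeal A) (hy' : y ∈ maximalIdeal A)
    (p : Bl (maximalIdeal A))
    (hp : p ∈ Proj.basicOpen (deg (maximalIdeal A)) (T (maximalIdeal A) x hx')) :
    IsRegularLocalRing ((Bl (maximalIdeal A)).presheaf.stalk p) := by
  have := isRegularRing_away x y hA hxy hx' hy'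
  refine isRegularLocalRing_stalk_of_isAffineOpen
    (Proj.isAffineOpen_basicOpen (deg (maximalIdeal A)) _ (T_mem _ _ _) Nat.one_pos) ?_ p hp
  exact IsRegularRing.of_ringEquiv
    (Proj.basicOpenIsoAway (deg (maximalIdeal A)) _ (T_mem _ _ _) Nat.one_pos).commRingCatIsoToRingEquiv

include hA in
/-- **the blow-up of a two-dimensional regular local ring in its maximal ideal is irreducible and
regular** -/
theorem irreducible_and_regular {X : Scheme.{u}} (b : X ⟶ Spec (CommRingCat.of A))
    (hb : BlowUp.IsBlowUp b (idealSheaf (maximalIdeal A))) :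
    IrreducibleSpace X ∧ ∀ p : X, IsRegularLocalRing (X.presheaf.stalk p) := by
  obtain ⟨x, y, hxy⟩ := exists_gens hA
  have hxy' : Ideal.span {y, x} = maximalIdeal A := by rw [Set.pair_comm]; exact hxy
  have hx' : x ∈ maximalIdeal A := mem_maximalIdeal_left hxy
  have hy' : y ∈ maximalIdeal A := mem_maximalIdeal_left hxy'
  obtain ⟨e, -⟩ := Groth.Agent.Lib.BlowUp.UP.exists_iso_of_isBlowUp b (π (maximalIdeal A)) hb
    (isBlowUp_π (maximalIdeal A))
  have : IsDomain A := Groth.Agent.S0558.result A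
  have hirr : IrreducibleSpace (Bl (maximalIdeal A)) :=
    irreducibleSpace_Bl (maximalIdeal A) x hx' (ne_zero hA hxy)
  refine ⟨irreducibleSpace_of_iso e, fun p => ?_⟩
  have hreg : IsRegularLocalRing ((Bl (maximalIdeal A)).presheaf.stalk (e.hom p)) := by
    have hcov := Groth.Agent.Lib.BlowUp.GenCover.iSup_basicOpen_gen (maximalIdeal A) ![x, y]
      (fun i => by fin_cases i <;> assumption)
      (by rw [Matrix.range_cons, Matrix.range_cons, Matrix.range_empty, Set.union_empty]
          exact hxy)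
    have hmem : e.hom p ∈ (⊤ : (Bl (maximalIdeal A)).Opens) := trivial
    rw [← hcov] at hmem
    obtain ⟨i, hi⟩ := TopologicalSpace.Opens.mem_iSup.1 hmem
    fin_cases i
    · exact isRegularLocalRing_stalk_of_mem x y hA hxy hx' hy' _ hi
    · exact isRegularLocalRing_stalk_of_mem y x hA hxy' hy' hx' _ hi
  exact IsRegularLocalRing.of_ringEquiv
    (asIso (e.hom.stalkMap p)).commRingCatIsoToRingEquiv

end Reg

end Groth.Agent.Lib.BlowUp.RegSurf
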