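import Groth.Agent.Lib.Helper84.DerReg2
import Groth.Agent.Lib.Helper15.CompleteUCat

/-!
# The affine blow-up algebra of a two-dimensional regular local ring (lead)

ns `Groth.Agent.Lib.BlowUp.RegSurfAlg`.

* `ker_eq_span` : `x ≠ 0` in a domain, `y` regular mod `x`; a ring map `φ : A[X] → S`, injective on
  constants, with `φ (xX - y) = 0` has kernel `(xX - y)`.
* `notMem_sq_of_span_insert` : Nakayama + Krull: an element completing fewer than `dim` elements to a
  generating set of the maximal ideal is not in its square.
* regular local rings of dimension two: `exists_gens`, `x ∉ m²`, `x ≠ 0`, `y` regular mod `x`.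
* `isRegularRing_quot` : `A[X]/(xX - y)` is a regular ring if `(x, y) = m`, `A` regular local of dimension two.
-/

universe u

open Polynomial IsLocalRing

namespace Groth.Agent.Lib.BlowUp.RegSurfAlg

section Ker

variable {A : Type u} [CommRing A] (x y : A)

/-- the relation `xX - y` -/
noncomputable def rel : A[X] := C x * X - C y

variable {x y}

lemma mem_span_of_C_mul_mem [IsDomain A] (hx : x ≠ 0)
    (hy : ∀ a, a * y ∈ Ideal.span {x} → a ∈ Ideal.span {x}) (q : A[X])
    (h : C x * q ∈ Ideal.span {rel x y}) : q ∈ Ideal.span {rel x y} := by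
  obtain ⟨g, hg⟩ := Ideal.mem_span_singleton'.1 h
  -- `g * (xX - y) = x q`, so `g y = x (g X - q)`
  have h1 : g * C y = C x * (g * X - q) := by
    unfold rel at hg
    linear_combination (-1 : A[X]) * hg
  have h2 : ∀ i, g.coeff i ∈ Ideal.span {x} := by
    intro i
    apply hy
    have := congrArg (fun p => p.coeff i) h1
    simp only [coeff_mul_C, coeff_C_mul] at this
    rw [this]
    exact Ideal.mul_mem_right _ _ (Ideal.subset_span rfl)
  have h3 : g ∈ (Ideal.span {x}).map (C : A →+* A[X]) := Ideal.mem_map_C_iff.2 h2
  rw [Ideal.map_span, Set.image_singleton] at h3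
  obtain ⟨g', hg'⟩ := Ideal.mem_span_singleton'.1 h3
  have hCx : (C x : A[X]) ≠ 0 := by rwa [Ne, C_eq_zero]
  have h4 : C x * q = C x * (g' * rel x y) := by
    rw [← hg, ← hg']
    ring
  rw [mul_left_cancel₀ hCx h4]
  exact Ideal.mul_mem_left _ _ (Ideal.subset_span rfl)

lemma exists_pow_mul_sub_mem (p : A[X]) :
    ∃ (n : ℕ) (c : A), C x ^ n * p - C c ∈ Ideal.span {rel x y} := by
  induction p using Polynomial.induction_on' with
  | add p q hp hq =>
    obtain ⟨n, c, hc⟩ := hp
    obtain ⟨m, d, hd⟩ := hq
    refine ⟨n + m, x ^ m * c + x ^ n * d, ?_⟩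
    have : C x ^ (n + m) * (p + q) - C (x ^ m * c + x ^ n * d) =
        C x ^ m * (C x ^ n * p - C c) + C x ^ n * (C x ^ m * q - C d) := by
      simp only [map_add, map_mul, map_pow]
      ring
    rw [this]
    exact Ideal.add_mem _ (Ideal.mul_mem_left _ _ hc) (Ideal.mul_mem_left _ _ hd)
  | monomial k a =>
    induction k with
    | zero => exact ⟨0, a, by simp⟩
    | succ k ih =>
      obtain ⟨n, c, hc⟩ := ih
      refine ⟨n + 1, c * y, ?_⟩
      have : C x ^ (n + 1) * monomial (k + 1) a - C (c * y) =
          (C x ^ n * monomial k a - C c) * (C x * X) + C c * rel x y := by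
        rw [← monomial_mul_X]
        unfold rel
        simp only [map_mul]
        ring
      rw [this]
      exact Ideal.add_mem _ (Ideal.mul_mem_right _ _ hc)
        (Ideal.mul_mem_left _ _ (Ideal.subset_span rfl))

theorem ker_eq_span [IsDomain A] (hx : x ≠ 0)
    (hy : ∀ a, a * y ∈ Ideal.span {x} → a ∈ Ideal.span {x})
    {S : Type*} [CommRing S] (φ : A[X] →+* S) (hC : Function.Injective (φ.comp C))
    (hrel : φ (rel x y) = 0) : RingHom.ker φ = Ideal.span {rel x y} := by
  have hle : Ideal.span {rel x y} ≤ RingHom.ker φ := by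
    rw [Ideal.span_le, Set.singleton_subset_iff]
    exact hrel
  refine le_antisymm ?_ hle
  intro p hp
  obtain ⟨n, c, hc⟩ := exists_pow_mul_sub_mem (x := x) (y := y) p
  have h1 : φ (C x ^ n * p - C c) = 0 := hle hc
  rw [map_sub, map_mul, (RingHom.mem_ker).1 hp, mul_zero, zero_sub, neg_eq_zero] at h1
  have hc0 : c = 0 := hC (by simpa using h1)
  rw [hc0, map_zero, sub_zero] at hc
  clear h1 hc0
  induction n with
  | zero => simpa using hc
  | succ n ih =>
    apply ih
    apply mem_span_of_C_mul_mem hx hy
    rw [← mul_assoc, ← pow_succ']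
    exact hc

end Ker

section Nak

variable {L : Type*} [CommRing L] [IsLocalRing L] [IsNoetherianRing L]

theorem ringKrullDim_le_ncard (s : Set L) (hs : s.Finite) (hspan : Ideal.span s = maximalIdeal L) :
    ringKrullDim L ≤ (s.ncard : WithBot ℕ∞) := by
  rw [← IsLocalRing.maximalIdeal_height_eq_ringKrullDim]
  have h1 := Ideal.height_le_spanFinrank (maximalIdeal L) Ideal.IsPrime.ne_top'
  have h2 : (maximalIdeal L).spanFinrank ≤ s.ncard := by
    rw [← hspan]
    exact Submodule.spanFinrank_span_le_ncard_of_finite hs
  have h3 : (maximalIdeal L).height ≤ (s.ncard : ℕ∞) := h1.trans (by exact_mod_cast h2)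
  exact_mod_cast WithBot.coe_le_coe.2 h3

/-- an element completing fewer than `dim L` elements to a generating set of the maximal ideal is
not in the square of the maximal ideal -/
theorem notMem_sq_of_span_insert (f : L) (s : Set L) (hs : s.Finite)
    (hspan : Ideal.span (insert f s) = maximalIdeal L)
    (hlt : (s.ncard : WithBot ℕ∞) < ringKrullDim L) : f ∉ maximalIdeal L ^ 2 := by
  intro hf
  have h1 : maximalIdeal L ≤ Ideal.span s := by
    apply Submodule.le_of_le_smul_of_le_jacobson_bot (I := maximalIdeal L)
      (IsNoetherian.noetherian _) (IsLocalRing.maximalIdeal_le_jacobson _)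
    nth_rw 1 [← hspan]
    rw [Ideal.span_le]
    rintro z (rfl | hz)
    · refine Submodule.mem_sup_right ?_
      rwa [smul_eq_mul, ← pow_two]
    · exact Submodule.mem_sup_left (Ideal.subset_span hz)
  have h2 : Ideal.span s = maximalIdeal L := by
    refine le_antisymm ?_ h1
    rw [← hspan]
    exact Ideal.span_mono (Set.subset_insert f s)
  exact absurd (ringKrullDim_le_ncard s hs h2) (not_le.2 hlt)

end Nak

section RegLoc

variable {A : Type u} [CommRing A] [IsRegularLocalRing A] (hA : ringKrullDim A = 2)

include hA in
theorem exists_gens : ∃ x y : A, Ideal.span {x, y} = maximalIdeal A := by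
  have hfg : (maximalIdeal A).FG := IsNoetherian.noetherian _
  have hcard : (Submodule.generators (maximalIdeal A)).ncard = 2 := by
    rw [Submodule.FG.generators_ncard hfg]
    have h := IsRegularLocalRing.spanFinrank_maximalIdeal (R := A)
    rw [hA] at h
    exact_mod_cast h
  obtain ⟨x, y, -, hxy⟩ := Set.ncard_eq_two.1 hcard
  refine ⟨x, y, ?_⟩
  have h := Submodule.span_generators (maximalIdeal A)
  rw [hxy] at h
  exact h

variable {x y : A} (hxy : Ideal.span {x, y} = maximalIdeal A)

include hA hxy in
theorem notMem_sq : x ∉ maximalIdeal A ^ 2 := by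
  apply notMem_sq_of_span_insert x {y} (Set.finite_singleton y) hxy
  rw [Set.ncard_singleton, hA]
  exact_mod_cast (by norm_num : (1 : ℕ∞) < 2)

include hA hxy in
theorem ne_zero : x ≠ 0 := by
  rintro rfl
  exact notMem_sq hA hxy (Ideal.zero_mem _)

include hA hxy in
theorem notMem_span : y ∉ Ideal.span {x} := by
  intro hy
  have h1 : Ideal.span {x} = maximalIdeal A := by
    rw [← hxy]
    refine le_antisymm (Ideal.span_mono (by simp)) ?_
    rw [Ideal.span_le]
    rintro z (rfl | rfl)
    · exact Ideal.subset_span rfl
    · exact hy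
  have h2 := ringKrullDim_le_ncard {x} (Set.finite_singleton x) h1
  rw [Set.ncard_singleton, hA] at h2
  exact absurd h2 (by exact_mod_cast (by norm_num : ¬ ((2 : ℕ∞) ≤ 1)))

include hxy in
theorem mem_maximalIdeal_left : x ∈ maximalIdeal A := by
  rw [← hxy]; exact Ideal.subset_span (by simp)

include hA hxy in
theorem regular_mod (a : A) (h : a * y ∈ Ideal.span {x}) : a ∈ Ideal.span {x} := by
  obtain ⟨hreg, -⟩ := Groth.Agent.S0558.isRegularLocalRing_quot A x (mem_maximalIdeal_left hxy)
    (notMem_sq hA hxy)
  have hdom : IsDomain (A ⧸ Ideal.span {x}) := Groth.Agent.S0558.result _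
  have h1 : Ideal.Quotient.mk (Ideal.span {x}) a * Ideal.Quotient.mk (Ideal.span {x}) y = 0 := by
    rw [← map_mul]
    exact Ideal.Quotient.eq_zero_iff_mem.2 h
  rcases mul_eq_zero.1 h1 with h2 | h2
  · exact Ideal.Quotient.eq_zero_iff_mem.1 h2
  · exact absurd (Ideal.Quotient.eq_zero_iff_mem.1 h2) (notMem_span hA hxy)

/-- `d/dX` as a `ℤ`-derivation -/
noncomputable def der : @Derivation ℤ A[X] A[X] _ _ _ (Ring.toIntAlgebra A[X]) _ _ :=
  letI := Ring.toIntAlgebra A[X]
  { toLinearMap := (derivative : A[X] →ₗ[A] A[X]).toAddMonoidHom.toIntLinearMap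
    map_one_eq_zero' := derivative_one
    leibniz' := fun f g => by
      show derivative (f * g) = f • derivative g + g • derivative f
      simp [mul_comm, add_comm, derivative_mul] }

omit [IsRegularLocalRing A] in
lemma der_rel : der (A := A) (rel x y) = C x := by
  show derivative (rel x y) = C x
  unfold rel
  simp

include hA hxy in
theorem rel_notMem_sq (Q : Ideal A[X]) [Q.IsPrime] (hQ : rel x y ∈ Q) :
    algebraMap A[X] (Localization.AtPrime Q) (rel x y) ∉
      maximalIdeal (Localization.AtPrime Q) ^ 2 := by
  by_cases hx : C x ∈ Q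
  · -- the prime lies over the maximal ideal
    have hy : C y ∈ Q := by
      have : C y = C x * X - rel x y := by unfold rel; ring
      rw [this]
      exact Q.sub_mem (Q.mul_mem_right _ hx) hQ
    have hcomap : Q.comap C = maximalIdeal A := by
      refine le_antisymm (IsLocalRing.le_maximalIdeal (Ideal.IsPrime.ne_top inferInstance)) ?_
      rw [← hxy, Ideal.span_le]
      rintro z (rfl | rfl)
      · exact hx
      · exact hy
    have hmle : (maximalIdeal A).map C ≤ Q := by
      rw [← hcomap]; exact Ideal.map_comap_le
    have hmprime : ((maximalIdeal A).map (C : A →+* A[X])).IsPrime :=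
      Ideal.isPrime_map_C_of_isPrime
    have hmht : ((maximalIdeal A).map (C : A →+* A[X])).height = 2 := by
      rw [Polynomial.height_map_C]
      have h := IsLocalRing.maximalIdeal_height_eq_ringKrullDim (R := A)
      rw [hA] at h
      have h' : ((maximalIdeal A).height : WithBot ℕ∞) = ((2 : ℕ∞) : WithBot ℕ∞) := h
      exact WithBot.coe_injective h'
    have hdim : ringKrullDim (Localization.AtPrime Q) = Q.height :=
      IsLocalization.AtPrime.ringKrullDim_eq_height Q _
    have hmL : maximalIdeal (Localization.AtPrime Q) =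
        Q.map (algebraMap A[X] (Localization.AtPrime Q)) :=
      (Localization.AtPrime.map_eq_maximalIdeal).symm
    have hmC : (maximalIdeal A).map (C : A →+* A[X]) = Ideal.span {C x, C y} := by
      rw [← hxy, Ideal.map_span]
      congr 1
      simp [Set.image_pair]
    have hrel : ∀ (J : Ideal A[X]), Ideal.span {C x, C y} ⊔ J = Ideal.span {rel x y, C x} ⊔ J := by
      intro J
      congr 1
      apply le_antisymm
      · rw [Ideal.span_le]
        rintro z (rfl | rfl)
        · exact Ideal.subset_span (by simp)
        · have : C y = C x * X - rel x y := by unfold rel; ring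
          rw [this]
          exact Ideal.sub_mem _ (Ideal.mul_mem_right _ _ (Ideal.subset_span (by simp)))
            (Ideal.subset_span (by simp))
      · rw [Ideal.span_le]
        rintro z (rfl | rfl)
        · unfold rel
          exact Ideal.sub_mem _ (Ideal.mul_mem_right _ _ (Ideal.subset_span (by simp)))
            (Ideal.subset_span (by simp))
        · exact Ideal.subset_span (by simp)
    by_cases hQm : Q = (maximalIdeal A).map C
    · have hQ2 : Q = Ideal.span {rel x y, C x} := by
        have := hrel ⊥
        rw [sup_bot_eq, sup_bot_eq] at this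
        rw [hQm, hmC, this]
      apply notMem_sq_of_span_insert _ {algebraMap A[X] (Localization.AtPrime Q) (C x)}
        (Set.finite_singleton _)
      · rw [hmL, congrArg (Ideal.map (algebraMap A[X] (Localization.AtPrime Q))) hQ2,
          Ideal.map_span, Set.image_pair]
      · rw [Set.ncard_singleton, hdim, hQm, hmht]
        exact_mod_cast (by norm_num : (1 : ℕ∞) < 2)
    · have hmax : (Q.comap C).IsMaximal := by rw [hcomap]; infer_instance
      obtain ⟨G, -, hG⟩ := Polynomial.exists_monic_span_sup_map_eq A Q hmax (by rwa [hcomap])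
      have hQ2 : Q = Ideal.span {rel x y, C x, G} := by
        nth_rw 1 [hG]
        rw [hcomap, hmC, hrel]
        rw [← Ideal.span_union]
        congr 1
        ext z
        simp only [Set.mem_union, Set.mem_insert_iff, Set.mem_singleton_iff]
        tauto
      have hlt : (maximalIdeal A).map C < Q := lt_of_le_of_ne hmle (Ne.symm hQm)
      have hht : (3 : ℕ∞) ≤ Q.height := by
        have := Ideal.height_add_one_le_of_lt_of_isPrime hlt
        rw [hmht] at this
        exact this
      apply notMem_sq_of_span_insert _ {algebraMap A[X] (Localization.AtPrime Q) (C x),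
        algebraMap A[X] (Localization.AtPrime Q) G} (Set.toFinite _)
      · rw [hmL, congrArg (Ideal.map (algebraMap A[X] (Localization.AtPrime Q))) hQ2,
          Ideal.map_span]
        congr 1
        simp [Set.image_insert_eq]
      · rw [hdim]
        have h1 : ({algebraMap A[X] (Localization.AtPrime Q) (C x),
            algebraMap A[X] (Localization.AtPrime Q) G} : Set _).ncard ≤ 2 :=
          (Set.ncard_insert_le _ _).trans (by rw [Set.ncard_singleton])
        have h2 : ((2 : ℕ) : ℕ∞) < Q.height := lt_of_lt_of_le (by norm_num) hht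
        have h3 : ((({algebraMap A[X] (Localization.AtPrime Q) (C x),
            algebraMap A[X] (Localization.AtPrime Q) G} : Set _).ncard : ℕ) : ℕ∞) < Q.height :=
          lt_of_le_of_lt (by exact_mod_cast h1) h2
        exact_mod_cast WithBot.coe_lt_coe.2 h3
  · exact Groth.Agent.Lib.Helper84.DerReg.algebraMap_notMem_sq Q der hQ (by rwa [der_rel])

include hA hxy in
/-- **`A[X]/(xX - y)` is a regular ring** -/
theorem isRegularRing_quot : IsRegularRing (A[X] ⧸ Ideal.span {rel x y}) := by
  have : IsRegularRing A := Groth.Agent.Lib.Helper15.CompleteUCat.isRegularRing_of_isRegularLocalRing A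
  rw [isRegularRing_iff]
  intro q hq
  have hp : (q.comap (Ideal.Quotient.mk (Ideal.span {rel x y}))).IsPrime := Ideal.comap_isPrime _ _
  have hmem : rel x y ∈ q.comap (Ideal.Quotient.mk (Ideal.span {rel x y})) := by
    show Ideal.Quotient.mk _ (rel x y) ∈ q
    have h0 : Ideal.Quotient.mk (Ideal.span {rel x y}) (rel x y) = 0 :=
      Ideal.Quotient.eq_zero_iff_mem.2 (Ideal.subset_span (Set.mem_singleton _))
    rw [h0]
    exact q.zero_mem
  exact Groth.Agent.Lib.Helper84.DerReg.isRegularLocalRing_localization_quotient _ (rel x y) rfl q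
    _ rfl (rel_notMem_sq hA hxy _ hmem)

end RegLoc

end Groth.Agent.Lib.BlowUp.RegSurfAlg
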