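import Groth.Agent.Lib.BlowUp.Basic
import Groth.Agent.Lib.Helper42.ProjClosed

/-!
# Strict transforms: blowing up commutes with closed immersions (lead)

ns `Groth.Agent.Lib.BlowUp.Strict`.

* `reesMap φ I : reesAlgebra I →+* reesAlgebra (I.map φ)`, graded version `reesMapGr`.
* `isClosedImmersion_of_spec` : the induced map between blow-ups of `Spec B → Spec A` (`A → B`
  surjective) is a closed immersion.
* `isClosedImmersion_of_isAffine`, `isClosedImmersion` : same over an affine / arbitrary base.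
-/

universe u

open CategoryTheory CategoryTheory.Limits AlgebraicGeometry Opposite TopologicalSpace Polynomial

namespace Groth.Agent.Lib.BlowUp.Strict

open Groth.Agent.Lib.BlowUp.Rees Groth.Agent.Lib.BlowUp.ReesProj Groth.Agent.Lib.BlowUp.UP

section Ring

variable {A B : Type u} [CommRing A] [CommRing B] (φ : A →+* B) (I : Ideal A)

lemma map_mem_reesAlgebra (p : reesAlgebra I) :
    (p : A[X]).map φ ∈ reesAlgebra (I.map φ) := by
  rw [mem_reesAlgebra_iff]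
  intro i
  rw [coeff_map, ← Ideal.map_pow]
  exact Ideal.mem_map_of_mem _ ((mem_reesAlgebra_iff I _).1 p.2 i)

/-- the map of Rees algebras induced by a ring hom -/
noncomputable def reesMap : reesAlgebra I →+* reesAlgebra (I.map φ) :=
  RingHom.codRestrict ((Polynomial.mapRingHom φ).comp (reesAlgebra I).val.toRingHom)
    (reesAlgebra (I.map φ)) (fun p => map_mem_reesAlgebra φ I p)

lemma coe_reesMap (p : reesAlgebra I) : ((reesMap φ I p : reesAlgebra (I.map φ)) : B[X]) =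
    (p : A[X]).map φ := rfl

lemma reesMap_mon (n : ℕ) (c : A) (hc : c ∈ I ^ n) :
    reesMap φ I (mon I n c hc) = mon (I.map φ) n (φ c)
      (by rw [← Ideal.map_pow]; exact Ideal.mem_map_of_mem _ hc) :=
  Subtype.ext (by rw [coe_reesMap, coe_mon, coe_mon, Polynomial.map_monomial])

/-- the graded map of Rees algebras -/
noncomputable def reesMapGr : deg I →+*ᵍ deg (I.map φ) where
  toRingHom := reesMap φ I
  map_mem := fun {i x} hx j hj => by
    show ((reesMap φ I x : reesAlgebra (I.map φ)) : B[X]).coeff j = 0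
    rw [coe_reesMap, coeff_map, hx j hj, map_zero]

lemma reesMapGr_apply (p : reesAlgebra I) : reesMapGr φ I p = reesMap φ I p := rfl

variable (hφ : Function.Surjective φ)

include hφ in
lemma reesMapGr_surj (n : ℕ) (s : reesAlgebra (I.map φ)) (hs : s ∈ deg (I.map φ) n) :
    ∃ t ∈ deg I n, reesMapGr φ I t = s := by
  obtain ⟨c, hc, rfl⟩ := exists_eq_mon (I.map φ) hs
  rw [← Ideal.map_pow] at hc
  obtain ⟨a, ha, rfl⟩ := (Ideal.mem_map_iff_of_surjective φ hφ).1 hc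
  exact ⟨mon I n a ha, mon_mem I n a ha, reesMap_mon φ I n a ha⟩

include hφ in
lemma irrelevant_le_map : HomogeneousIdeal.irrelevant (deg (I.map φ)) ≤
    (HomogeneousIdeal.irrelevant (deg I)).map (reesMapGr φ I) := by
  rw [HomogeneousIdeal.irrelevant_le]
  intro n hn s hs
  obtain ⟨t, ht, rfl⟩ := reesMapGr_surj φ I hφ n s hs
  exact Ideal.mem_map_of_mem _ (HomogeneousIdeal.mem_irrelevant_of_mem (deg I) hn ht)

/-- the closed immersion `Bl_{IB} Spec B ⟶ Bl_I Spec A` -/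
noncomputable def blMap : Bl (I.map φ) ⟶ Bl I :=
  Proj.map (reesMapGr φ I) (irrelevant_le_map φ I hφ)

instance : IsClosedImmersion (blMap φ I hφ) :=
  Groth.Agent.Lib.Helper42.ProjClosed.isClosedImmersion_map (reesMapGr φ I)
    (irrelevant_le_map φ I hφ) (fun n _ s hs => reesMapGr_surj φ I hφ n s hs)

lemma blMap_π : blMap φ I hφ ≫ π I = π (I.map φ) ≫ Spec.map (CommRingCat.ofHom φ) := by
  have h := Groth.Agent.Lib.Helper42.ProjLoc.map_toSpecZero (reesMapGr φ I)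
    (irrelevant_le_map φ I hφ) (algebraMap A (deg I 0)) (algebraMap B (deg (I.map φ) 0)) φ
    (fun r => ?_)
  · unfold blMap π
    rw [Category.assoc]
    exact h
  · apply Subtype.ext
    show ((algebraMap A (reesAlgebra I) r : reesAlgebra I) : A[X]).map φ =
      ((algebraMap B (reesAlgebra (I.map φ)) (φ r) : reesAlgebra (I.map φ)) : B[X])
    rw [Subalgebra.coe_algebraMap, Subalgebra.coe_algebraMap, ← Polynomial.C_eq_algebraMap,
      ← Polynomial.C_eq_algebraMap, Polynomial.map_C]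

/-- the inverse image of the ideal sheaf of `I` under `Spec φ` is the ideal sheaf of `I B` -/
lemma idealSheaf_comap_SpecMap :
    (idealSheaf I).comap (Spec.map (CommRingCat.ofHom φ)) = idealSheaf (I.map φ) := by
  refine Scheme.IdealSheafData.ext_of_isAffine ?_
  rw [ideal_comap I _ ⟨⊤, isAffineOpen_top _⟩, Scheme.IdealSheafData.ofIdealTop_ideal,
    Ideal.map_map]
  have h3 : (Spec.map (CommRingCat.ofHom φ)).appLE ⊤ ⊤ (fun _ _ => trivial) =
      (Spec.map (CommRingCat.ofHom φ)).appTop := Scheme.Hom.appLE_eq_app _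
  have h4 := Scheme.ΓSpecIso_inv_naturality (CommRingCat.ofHom φ)
  have h5 : ((Spec.map (CommRingCat.ofHom φ)).appLE ⊤ ⊤ (fun _ _ => trivial)).hom.comp
      (Scheme.ΓSpecIso (CommRingCat.of A)).inv.hom =
      (Scheme.ΓSpecIso (CommRingCat.of B)).inv.hom.comp φ := by
    rw [h3]
    ext c
    exact (congrArg (fun ψ => ψ.hom c) h4).symm
  rw [h5, Ideal.map_map]
  refine congrArg (fun ψ => Ideal.map ψ I) ?_
  ext c
  have h6 : ∀ (h : (⊤ : (Spec (CommRingCat.of B)).Opens) ≤ ⊤),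
      (Spec (CommRingCat.of B)).presheaf.map (homOfLE h).op = 𝟙 _ := fun h => by
    rw [Subsingleton.elim (homOfLE h) (𝟙 _), op_id, CategoryTheory.Functor.map_id]
  simp only [RingHom.comp_apply, h6, CommRingCat.hom_id, RingHom.id_apply]

include hφ in
/-- **strict transform, `Spec` case**: the map between the blow-ups induced by a surjection
`A → B` is a closed immersion -/
theorem isClosedImmersion_of_spec {X' Y' : Scheme.{u}}
    (b : X' ⟶ Spec (CommRingCat.of A)) (hb : BlowUp.IsBlowUp b (idealSheaf I))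
    (b' : Y' ⟶ Spec (CommRingCat.of B)) (hb' : BlowUp.IsBlowUp b' (idealSheaf (I.map φ)))
    (f' : Y' ⟶ X') (hf' : f' ≫ b = b' ≫ Spec.map (CommRingCat.ofHom φ)) :
    IsClosedImmersion f' := by
  obtain ⟨eX, heX⟩ := exists_iso_of_isBlowUp b (π I) hb (isBlowUp_π I)
  obtain ⟨eY, heY⟩ := exists_iso_of_isBlowUp b' (π (I.map φ)) hb' (isBlowUp_π (I.map φ))
  have hE : BlowUp.IsEffCartierIdeal ((idealSheaf I).comap (f' ≫ b)) := by
    rw [hf', Scheme.IdealSheafData.comap_comp, idealSheaf_comap_SpecMap]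
    exact hb'.1
  have hinv : eX.inv ≫ b = π I := by rw [← heX, eX.inv_hom_id_assoc]
  have key : f' = eY.hom ≫ blMap φ I hφ ≫ eX.inv := by
    refine hom_ext hb _ _ hE ?_
    rw [hf', Category.assoc, Category.assoc, hinv, blMap_π, ← Category.assoc, heY]
  rw [key]
  infer_instance

end Ring

section Affine

/-- on an affine scheme, an ideal sheaf is the transport of the ideal sheaf of its global ideal -/
lemma comap_isoSpec_inv (Z : Scheme.{u}) [IsAffine Z] (𝓘 : Z.IdealSheafData) :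
    𝓘.comap Z.isoSpec.inv = idealSheaf (A := Γ(Z, ⊤)) (𝓘.ideal ⟨⊤, isAffineOpen_top Z⟩) := by
  obtain ⟨J, hJ⟩ : ∃ J : Ideal Γ(Z, ⊤), J = 𝓘.ideal ⟨⊤, isAffineOpen_top Z⟩ := ⟨_, rfl⟩
  rw [← hJ]
  have h0 : (idealSheaf J).comap Z.isoSpec.hom = 𝓘 := by
    refine Scheme.IdealSheafData.ext_of_isAffine ?_
    show ((idealSheaf J).comap Z.isoSpec.hom).ideal ⟨⊤, isAffineOpen_top Z⟩ = _
    rw [ideal_comap J Z.isoSpec.hom ⟨⊤, isAffineOpen_top Z⟩, ← hJ]
    have h2 : (Z.isoSpec.hom.appLE ⊤ ⊤ (fun _ _ => trivial)).hom.comp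
        (Scheme.ΓSpecIso (CommRingCat.of Γ(Z, ⊤))).inv.hom = RingHom.id _ := by
      have h3 : Z.isoSpec.hom.appLE ⊤ ⊤ (fun _ _ => trivial) = Z.isoSpec.hom.appTop :=
        Scheme.Hom.appLE_eq_app _
      have h4 : Z.isoSpec.hom.appTop = (Scheme.ΓSpecIso Γ(Z, ⊤)).hom := Scheme.toSpecΓ_appTop Z
      rw [h3, h4]
      ext c
      exact congrArg (fun φ => φ.hom c) (Scheme.ΓSpecIso Γ(Z, ⊤)).inv_hom_id
    show Ideal.map _ J = J
    rw [h2, Ideal.map_id]
  rw [← h0, ← Scheme.IdealSheafData.comap_comp, Z.isoSpec.inv_hom_id,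
    Scheme.IdealSheafData.comap_id]

/-- **strict transform, affine base** -/
theorem isClosedImmersion_of_isAffine {X Y X' Y' : Scheme.{u}} [IsAffine X]
    (𝓘 : X.IdealSheafData) (f : Y ⟶ X) [IsClosedImmersion f]
    (b : X' ⟶ X) (hb : BlowUp.IsBlowUp b 𝓘) (b' : Y' ⟶ Y) (hb' : BlowUp.IsBlowUp b' (𝓘.comap f))
    (f' : Y' ⟶ X') (hf' : f' ≫ b = b' ≫ f) : IsClosedImmersion f' := by
  obtain ⟨hY, hsurj⟩ := IsClosedImmersion.isAffine_surjective_of_isAffine f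
  obtain ⟨J, hJ⟩ : ∃ J : Ideal Γ(X, ⊤), J = 𝓘.ideal ⟨⊤, isAffineOpen_top X⟩ := ⟨_, rfl⟩
  have h1 : BlowUp.IsBlowUp (b ≫ X.isoSpec.hom) (idealSheaf J) := by
    rw [hJ, ← comap_isoSpec_inv]
    exact isBlowUp_comp_iso X.isoSpec b 𝓘 hb
  have h2 : BlowUp.IsBlowUp (b' ≫ Y.isoSpec.hom) (idealSheaf (J.map f.appTop.hom)) := by
    have h3 := isBlowUp_comp_iso Y.isoSpec b' _ hb'
    refine isBlowUp_congr ?_ h3
    rw [← Scheme.IdealSheafData.comap_comp, ← Scheme.isoSpec_inv_naturality,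
      Scheme.IdealSheafData.comap_comp, comap_isoSpec_inv, ← hJ]
    exact idealSheaf_comap_SpecMap f.appTop.hom J
  refine isClosedImmersion_of_spec f.appTop.hom J hsurj (b ≫ X.isoSpec.hom) h1
    (b' ≫ Y.isoSpec.hom) h2 f' ?_
  rw [← Category.assoc, hf', Category.assoc, Category.assoc]
  congr 1
  exact (Scheme.isoSpec_hom_naturality f).symm

end Affine

section General

/-- **strict transform**: if `f : Y ⟶ X` is a closed immersion, `b`, `b'` are blow-ups of `X`, `Y`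
in `𝓘`, `𝓘 𝒪_Y`, then the induced map `f'` between the blow-ups is a closed immersion -/
theorem isClosedImmersion {X Y X' Y' : Scheme.{u}}
    (𝓘 : X.IdealSheafData) (f : Y ⟶ X) [IsClosedImmersion f]
    (b : X' ⟶ X) (hb : BlowUp.IsBlowUp b 𝓘) (b' : Y' ⟶ Y) (hb' : BlowUp.IsBlowUp b' (𝓘.comap f))
    (f' : Y' ⟶ X') (hf' : f' ≫ b = b' ≫ f) : IsClosedImmersion f' := by
  have hsup : ⨆ U : X.affineOpens, b ⁻¹ᵁ U.1 = ⊤ := by
    rw [← Scheme.Hom.preimage_iSup, iSup_affineOpens_eq_top]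
    rfl
  rw [IsZariskiLocalAtTarget.iff_of_iSup_eq_top (P := @IsClosedImmersion) _ hsup]
  intro U
  have : IsAffine (U.1 : Scheme.{u}) := U.2
  -- the restricted blow-up of `X`
  have hbU : BlowUp.IsBlowUp (b ∣_ U.1) (𝓘.comap U.1.ι) :=
    isBlowUp_of_isPullback U.1.ι b (b ⁻¹ᵁ U.1).ι (b ∣_ U.1)
      (isPullback_morphismRestrict b U.1).flip 𝓘 hb
  -- the restricted blow-up of `Y`
  have hrange : Set.range ((f' ⁻¹ᵁ b ⁻¹ᵁ U.1).ι ≫ b').base ⊆ Set.range (f ⁻¹ᵁ U.1).ι.base := by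
    rintro _ ⟨y, rfl⟩
    have hy : (f' ≫ b).base y.1 ∈ U.1 := y.2
    rw [hf'] at hy
    rw [Scheme.Opens.range_ι]
    exact hy
  obtain ⟨b'', hb''⟩ : ∃ b'' : (f' ⁻¹ᵁ b ⁻¹ᵁ U.1 : Scheme.{u}) ⟶ (f ⁻¹ᵁ U.1 : Scheme.{u}),
      b'' = IsOpenImmersion.lift (f ⁻¹ᵁ U.1).ι ((f' ⁻¹ᵁ b ⁻¹ᵁ U.1).ι ≫ b') hrange := ⟨_, rfl⟩
  have hfac : b'' ≫ (f ⁻¹ᵁ U.1).ι = (f' ⁻¹ᵁ b ⁻¹ᵁ U.1).ι ≫ b' := by
    rw [hb'']; exact IsOpenImmersion.lift_fac _ _ _
  have hopens : b' ⁻¹ᵁ (f ⁻¹ᵁ U.1).ι.opensRange = (f' ⁻¹ᵁ b ⁻¹ᵁ U.1).ι.opensRange := by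
    rw [Scheme.Opens.opensRange_ι, Scheme.Opens.opensRange_ι]
    show (b' ≫ f) ⁻¹ᵁ U.1 = (f' ≫ b) ⁻¹ᵁ U.1
    rw [hf']
  have hpb : IsPullback (f' ⁻¹ᵁ b ⁻¹ᵁ U.1).ι b'' b' (f ⁻¹ᵁ U.1).ι :=
    (IsOpenImmersion.isPullback b'' (f' ⁻¹ᵁ b ⁻¹ᵁ U.1).ι (f ⁻¹ᵁ U.1).ι b' hfac.symm hopens).flip
  have hbU' : BlowUp.IsBlowUp b'' ((𝓘.comap U.1.ι).comap (f ∣_ U.1)) := by
    have h1 := isBlowUp_of_isPullback (f ⁻¹ᵁ U.1).ι b' (f' ⁻¹ᵁ b ⁻¹ᵁ U.1).ι b'' hpb _ hb'
    refine isBlowUp_congr ?_ h1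
    rw [← Scheme.IdealSheafData.comap_comp, ← Scheme.IdealSheafData.comap_comp,
      morphismRestrict_ι]
  refine isClosedImmersion_of_isAffine (𝓘.comap U.1.ι) (f ∣_ U.1) (b ∣_ U.1) hbU b'' hbU'
    (f' ∣_ (b ⁻¹ᵁ U.1)) ?_
  rw [← cancel_mono U.1.ι, Category.assoc, Category.assoc, morphismRestrict_ι,
    morphismRestrict_ι_assoc, morphismRestrict_ι, hf', reassoc_of% hfac]

end General

end Groth.Agent.Lib.BlowUp.Strict
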