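import Groth.Agent.Lib.BlowUp.RegSurf

/-!
# The two charts of the blow-up of `Spec A` in an ideal `(x, y)` (lead)

ns `Groth.Agent.Lib.BlowUp.TwoCharts`.

* `exists_add` : every element of `(Rees_I)_(xT·yT)` is a sum of an element coming from `(Rees_I)_(xT)` and an
  element coming from `(Rees_I)_(yT)`.
* `exists_res_add` : every function on `D₊(xT) ⊓ D₊(yT) ⊆ Bl I` is a sum of restrictions of functions on the two
  charts.
-/

universe u

open CategoryTheory CategoryTheory.Limits AlgebraicGeometry Opposite TopologicalSpace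
  HomogeneousLocalization Polynomial

namespace Groth.Agent.Lib.BlowUp.TwoCharts

open Groth.Agent.Lib.BlowUp.Rees Groth.Agent.Lib.BlowUp.ReesProj Groth.Agent.Lib.BlowUp.RegSurf
  Groth.Agent.Lib.Proj.AwayLaurent

variable {A : Type u} [CommRing A] (I : Ideal A) (x y : A) (hx : x ∈ I) (hy : y ∈ I)

/-- `(Rees_I)_(xT) → (Rees_I)_(xT·yT)` -/
noncomputable def ρ₁ : Away (deg I) (T I x hx) →+* Away (deg I) (T I x hx * T I y hy) :=
  awayMap (deg I) (T_mem I y hy) rfl

/-- `(Rees_I)_(yT) → (Rees_I)_(xT·yT)` -/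
noncomputable def ρ₂ : Away (deg I) (T I y hy) →+* Away (deg I) (T I x hx * T I y hy) :=
  awayMap (deg I) (T_mem I x hx) (mul_comm _ _)

lemma ρ₁_θ (c : A) : ρ₁ I x y hx hy (θ I x hx c) = ρ₂ I x y hx hy (θ I y hy c) := by
  unfold ρ₁ ρ₂ θ
  rw [RingHom.comp_apply, RingHom.comp_apply, awayMap_fromZeroRingHom, awayMap_fromZeroRingHom]

/-- `yT/xT` and `xT/yT` are inverse to each other on the intersection -/
lemma ρ₁_mul_ρ₂ :
    ρ₁ I x y hx hy (Away.isLocalizationElem (T_mem I x hx) (T_mem I y hy)) *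
      ρ₂ I x y hx hy (Away.isLocalizationElem (T_mem I y hy) (T_mem I x hx)) = 1 := by
  apply HomogeneousLocalization.val_injective
  unfold ρ₁ ρ₂
  simp only [Away.isLocalizationElem, awayMap_mk, val_mul, val_one, Away.val_mk,
    Localization.mk_mul]
  rw [← Localization.mk_one, Localization.mk_eq_mk_iff, Localization.r_iff_exists]
  use 1
  simp only [OneMemClass.coe_one, one_mul, Submonoid.coe_mul, mul_one]
  ring

/-- abstract form of the decomposition: `B₁ = A[t]`, `B = B₁[1/t]`, and `1/t` comes from `B₂` -/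
theorem exists_add_of_generated {A B₁ B₂ B : Type*} [CommRing A] [CommRing B₁] [CommRing B₂]
    [CommRing B] (ρ₁ : B₁ →+* B) (ρ₂ : B₂ →+* B) (θ₁ : A →+* B₁) (θ₂ : A →+* B₂)
    (hθ : ∀ c, ρ₁ (θ₁ c) = ρ₂ (θ₂ c)) (t : B₁) (t' : B₂) (h1 : ρ₁ t * ρ₂ t' = 1)
    (hgen : ∀ a : B₁, ∃ P : A[X], Polynomial.eval₂ θ₁ t P = a)
    (hloc : ∀ z : B, ∃ (n : ℕ) (a : B₁), z * ρ₁ t ^ n = ρ₁ a) (z : B) :
    ∃ a b, z = ρ₁ a + ρ₂ b := by
  obtain ⟨n, a, ha⟩ := hloc z
  have hz : z = ρ₁ a * ρ₂ t' ^ n := by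
    calc z = z * (ρ₁ t * ρ₂ t') ^ n := by rw [h1, one_pow, mul_one]
      _ = (z * ρ₁ t ^ n) * ρ₂ t' ^ n := by ring
      _ = _ := by rw [ha]
  have claim : ∀ (P : A[X]) (n : ℕ), ∃ a b,
      ρ₁ (Polynomial.eval₂ θ₁ t P) * ρ₂ t' ^ n = ρ₁ a + ρ₂ b := by
    intro P
    induction P using Polynomial.induction_on' with
    | add p q hp hq =>
      intro n
      obtain ⟨a1, b1, e1⟩ := hp n
      obtain ⟨a2, b2, e2⟩ := hq n
      refine ⟨a1 + a2, b1 + b2, ?_⟩
      rw [Polynomial.eval₂_add, map_add, add_mul, e1, e2, map_add, map_add]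
      ring
    | monomial k c =>
      intro n
      rw [Polynomial.eval₂_monomial]
      rcases le_total n k with h | h
      · refine ⟨θ₁ c * t ^ (k - n), 0, ?_⟩
        obtain ⟨j, rfl⟩ := Nat.exists_eq_add_of_le h
        rw [map_zero, add_zero, Nat.add_sub_cancel_left, map_mul, map_mul, map_pow, map_pow,
          pow_add]
        calc ρ₁ (θ₁ c) * (ρ₁ t ^ n * ρ₁ t ^ j) * ρ₂ t' ^ n
            = ρ₁ (θ₁ c) * ρ₁ t ^ j * (ρ₁ t * ρ₂ t') ^ n := by ring
          _ = _ := by rw [h1, one_pow, mul_one]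
      · refine ⟨0, θ₂ c * t' ^ (n - k), ?_⟩
        obtain ⟨j, rfl⟩ := Nat.exists_eq_add_of_le h
        rw [map_zero, zero_add, Nat.add_sub_cancel_left, map_mul, map_mul, map_pow, map_pow,
          pow_add, hθ]
        calc ρ₂ (θ₂ c) * ρ₁ t ^ k * (ρ₂ t' ^ k * ρ₂ t' ^ j)
            = ρ₂ (θ₂ c) * ρ₂ t' ^ j * (ρ₁ t * ρ₂ t') ^ k := by ring
          _ = _ := by rw [h1, one_pow, mul_one]
  obtain ⟨P, rfl⟩ := hgen a
  rw [hz]
  exact claim P n

theorem exists_add (hI : Ideal.span {x, y} = I) (z : Away (deg I) (T I x hx * T I y hy)) :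
    ∃ a b, z = ρ₁ I x y hx hy a + ρ₂ I x y hx hy b := by
  have hψX : ψ I x y hx hy X = Away.isLocalizationElem (T_mem I x hx) (T_mem I y hy) := by
    rw [ψ_X]
    apply HomogeneousLocalization.val_injective
    unfold frac
    rw [val_mk1]
    show _ = Localization.mk (T I y hy ^ 1) _
    simp only [pow_one]
    rfl
  refine exists_add_of_generated (ρ₁ I x y hx hy) (ρ₂ I x y hx hy) (θ I x hx) (θ I y hy)
    (ρ₁_θ I x y hx hy) (Away.isLocalizationElem (T_mem I x hx) (T_mem I y hy))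
    (Away.isLocalizationElem (T_mem I y hy) (T_mem I x hx)) (ρ₁_mul_ρ₂ I x y hx hy) ?_ ?_ z
  · intro a
    obtain ⟨P, rfl⟩ := ψ_surjective I x y hx hy hI a
    refine ⟨P, ?_⟩
    rw [← hψX]
    unfold RegSurf.ψ
    rw [Polynomial.coe_eval₂RingHom]
    congr 1
    simp
  · intro z
    let _ := (ρ₁ I x y hx hy).toAlgebra
    have hloc : IsLocalization.Away (Away.isLocalizationElem (T_mem I x hx) (T_mem I y hy))
        (Away (deg I) (T I x hx * T I y hy)) :=
      Away.isLocalization_mul (T_mem I x hx) (T_mem I y hy) rfl one_ne_zero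
    exact IsLocalization.Away.surj (Away.isLocalizationElem (T_mem I x hx) (T_mem I y hy)) z

lemma T_mul_T_mem : T I x hx * T I y hy ∈ deg I (1 + 1) :=
  SetLike.mul_mem_graded (T_mem I x hx) (T_mem I y hy)

/-- **every function on `D₊(xT·yT)` is a sum of restrictions from `D₊(xT)` and `D₊(yT)`** -/
theorem exists_res_add (hI : Ideal.span {x, y} = I)
    (r : Γ(Bl I, Proj.basicOpen (deg I) (T I x hx * T I y hy))) :
    ∃ (r₁ : Γ(Bl I, Proj.basicOpen (deg I) (T I x hx)))
      (r₂ : Γ(Bl I, Proj.basicOpen (deg I) (T I y hy))),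
      r = (Bl I).presheaf.map (homOfLE (Proj.basicOpen_mono (deg I) _ _
            ⟨T I y hy, rfl⟩)).op r₁ +
          (Bl I).presheaf.map (homOfLE (Proj.basicOpen_mono (deg I) _ _
            ⟨T I x hx, mul_comm _ _⟩)).op r₂ := by
  have hiso : IsIso (Proj.awayToSection (deg I) (T I x hx * T I y hy)) :=
    (Proj.basicOpenIsoAway (deg I) (T I x hx * T I y hy) (T_mul_T_mem I x y hx hy)
      (by norm_num)).isIso_hom
  obtain ⟨z, hz⟩ : ∃ z, (Proj.awayToSection (deg I) (T I x hx * T I y hy)).hom z = r :=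
    ((ConcreteCategory.bijective_of_isIso
      (Proj.awayToSection (deg I) (T I x hx * T I y hy))).2 r)
  obtain ⟨a, b, hab⟩ := exists_add I x y hx hy hI z
  have e1 := ConcreteCategory.congr_hom
      (Proj.awayMap_awayToSection (deg I) (T_mem I y hy) (rfl : T I x hx * T I y hy = _)) a
  have e2 := ConcreteCategory.congr_hom
      (Proj.awayMap_awayToSection (deg I) (T_mem I x hx)
        (mul_comm _ _ : T I x hx * T I y hy = T I y hy * T I x hx)) b
  refine ⟨(Proj.awayToSection (deg I) (T I x hx)).hom a,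
    (Proj.awayToSection (deg I) (T I y hy)).hom b, ?_⟩
  have e3 : (Proj.awayToSection (deg I) (T I x hx * T I y hy)).hom z =
      (Proj.awayToSection (deg I) (T I x hx * T I y hy)).hom (ρ₁ I x y hx hy a) +
      (Proj.awayToSection (deg I) (T I x hx * T I y hy)).hom (ρ₂ I x y hx hy b) :=
    (congrArg _ hab).trans ((Proj.awayToSection (deg I) (T I x hx * T I y hy)).hom.map_add _ _)
  exact hz.symm.trans (e3.trans (congrArg₂ (· + ·) e1 e2))

end Groth.Agent.Lib.BlowUp.TwoCharts
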